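import Cfsg.Agent.Lib.PermComp.OutP.CentIso
import Cfsg.Agent.Lib.PermComp.OutP.HeC.DataP0

set_option autoImplicit false
set_option maxRecDepth 100000
set_option maxHeartbeats 0

namespace Cfsg.Agent.Lib.PermComp.OutP.HeC

open Cfsg Cfsg.Agent.Lib.PermComp.OutP
open Cfsg.Agent.Lib.PermComp.Core (force)
open Cfsg.Agent.Lib.PermComp.Kron (rangeAll rangeAll_spec)

def n : Nat := 2058
noncomputable def TT_T : Nat := (Nat.lor (Nat.lor (Nat.lor (Nat.lor (Nat.lor (Nat.lor (Nat.lor TT_p0 (Nat.shiftLeft TT_p1 15996)) (Nat.shiftLeft (Nat.lor TT_p2 (Nat.shiftLeft TT_p3 15996)) 31992)) (Nat.shiftLeft (Nat.lor (Nat.lor TT_p4 (Nat.shiftLeft TT_p5 15996)) (Nat.shiftLeft (Nat.lor TT_p6 (Nat.shiftLeft TT_p7 15996)) 31992)) 63984)) (Nat.shiftLeft (Nat.lor (Nat.lor (Nat.lor TT_p8 (Nat.shiftLeft TT_p9 15996)) (Nat.shiftLeft (Nat.lor TT_p10 (Nat.shiftLeft TT_p11 15996)) 31992)) (Nat.shiftLeft (Nat.lor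 (Nat.lor TT_p12 (Nat.shiftLeft TT_p13 15996)) (Nat.shiftLeft (Nat.lor TT_p14 (Nat.shiftLeft TT_p15 15996)) 31992)) 63984)) 127968)) (Nat.shiftLeft (Nat.lor (Nat.lor (Nat.lor (Nat.lor TT_p16 (Nat.shiftLeft TT_p17 15996)) (Nat.shiftLeft (Nat.lor TT_p18 (Nat.shiftLeft TT_p19 15996)) 31992)) (Nat.shiftLeft (Nat.lor (Nat.lor TT_p20 (Nat.shiftLeft TT_p21 15996)) (Nat.shiftLeft (Nat.lor TT_p22 (Nat.shiftLeft TT_p23 15996)) 31992)) 63984)) (Nat.shiftLeft (Nat.lor (Nat.lor (Nat.lor TT_p24 (Nat.shiftLeft TT_p25 15996)) (Nat.shiftLeft (Nat.lor TT_p26 (Nat.shiftLeft TT_p27 15996)) 31992)) (Nat.shiftLeft (Nat.lor (Nat.lor TT_p28 (Nat.shiftLeft TT_p29 15996)) (Nat.shiftLeft (Nat.lor TT_p30 (Nat.shiftLeft TT_p31 15996)) 31992)) 63984)) 127968)) 255936)) (Nat.shiftLeft (Nat.lor (Nat.lor (Nat.lor (Nat.lor (Nat.lor TT_p32 (Nat.shiftLeft TT_p33 15996)) (Nat.shiftLeft (Nat.lor TT_p34 (Nat.shiftLeft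 TT_p35 15996)) 31992)) (Nat.shiftLeft (Nat.lor (Nat.lor TT_p36 (Nat.shiftLeft TT_p37 15996)) (Nat.shiftLeft (Nat.lor TT_p38 (Nat.shiftLeft TT_p39 15996)) 31992)) 63984)) (Nat.shiftLeft (Nat.lor (Nat.lor (Nat.lor TT_p40 (Nat.shiftLeft TT_p41 15996)) (Nat.shiftLeft (Nat.lor TT_p42 (Nat.shiftLeft TT_p43 15996)) 31992)) (Nat.shiftLeft (Nat.lor (Nat.lor TT_p44 (Nat.shiftLeft TT_p45 15996)) (Nat.shiftLeft (Nat.lor TT_p46 (Nat.shiftLeft TT_p47 15996)) 31992)) 63984)) 127968)) (Nat.shiftLeft (Nat.lor (Nat.lor (Nat.lor (Nat.lor TT_p48 (Nat.shiftLeft TT_p49 15996)) (Nat.shiftLeft (Nat.lor TT_p50 (Nat.shiftLeft TT_p51 15996)) 31992)) (Nat.shiftLeft (Nat.lor (Nat.lor TT_p52 (Nat.shiftLeft TT_p53 15996)) (Nat.shiftLeft (Nat.lor TT_p54 (Nat.shiftLeft TT_p55 15996)) 31992)) 63984)) (Nat.shiftLeft (Nat.lor (Nat.lor (Nat.lor TT_p56 (Nat.shiftLeft TT_p57 15996)) (Nat.shiftLeft (Nat.lor TT_p58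 (Nat.shiftLeft TT_p59 15996)) 31992)) (Nat.shiftLeft (Nat.lor (Nat.lor TT_p60 (Nat.shiftLeft TT_p61 15996)) (Nat.shiftLeft (Nat.lor TT_p62 (Nat.shiftLeft TT_p63 15996)) 31992)) 63984)) 127968)) 255936)) 511872)) (Nat.shiftLeft (Nat.lor (Nat.lor (Nat.lor (Nat.lor (Nat.lor (Nat.lor TT_p64 (Nat.shiftLeft TT_p65 15996)) (Nat.shiftLeft (Nat.lor TT_p66 (Nat.shiftLeft TT_p67 15996)) 31992)) (Nat.shiftLeft (Nat.lor (Nat.lor TT_p68 (Nat.shiftLeft TT_p69 15996)) (Nat.shiftLeft (Nat.lor TT_p70 (Nat.shiftLeft TT_p71 15996)) 31992)) 63984)) (Nat.shiftLeft (Nat.lor (Nat.lor (Nat.lor TT_p72 (Nat.shiftLeft TT_p73 15996)) (Nat.shiftLeft (Nat.lor TT_p74 (Nat.shiftLeft TT_p75 15996)) 31992)) (Nat.shiftLeft (Nat.lor (Nat.lor TT_p76 (Nat.shiftLeft TT_p77 15996)) (Nat.shiftLeft (Nat.lor TT_p78 (Nat.shiftLeft TT_p79 15996)) 31992)) 63984)) 127968)) (Nat.shiftLeft (Nat.lor (Nat.lor (Nat.lor (Nat.lor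 TT_p80 (Nat.shiftLeft TT_p81 15996)) (Nat.shiftLeft (Nat.lor TT_p82 (Nat.shiftLeft TT_p83 15996)) 31992)) (Nat.shiftLeft (Nat.lor (Nat.lor TT_p84 (Nat.shiftLeft TT_p85 15996)) (Nat.shiftLeft (Nat.lor TT_p86 (Nat.shiftLeft TT_p87 15996)) 31992)) 63984)) (Nat.shiftLeft (Nat.lor (Nat.lor (Nat.lor TT_p88 (Nat.shiftLeft TT_p89 15996)) (Nat.shiftLeft (Nat.lor TT_p90 (Nat.shiftLeft TT_p91 15996)) 31992)) (Nat.shiftLeft (Nat.lor (Nat.lor TT_p92 (Nat.shiftLeft TT_p93 15996)) (Nat.shiftLeft (Nat.lor TT_p94 (Nat.shiftLeft TT_p95 15996)) 31992)) 63984)) 127968)) 255936)) (Nat.shiftLeft (Nat.lor (Nat.lor (Nat.lor (Nat.lor (Nat.lor TT_p96 (Nat.shiftLeft TT_p97 15996)) (Nat.shiftLeft (Nat.lor TT_p98 (Nat.shiftLeft TT_p99 15996)) 31992)) (Nat.shiftLeft (Nat.lor (Nat.lor TT_p100 (Nat.shiftLeft TT_p101 15996)) (Nat.shiftLeft (Nat.lor TT_p102 (Nat.shiftLeft TT_p103 15996)) 31992)) 63984)) (Nat.shiftLeft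 (Nat.lor (Nat.lor (Nat.lor TT_p104 (Nat.shiftLeft TT_p105 15996)) (Nat.shiftLeft (Nat.lor TT_p106 (Nat.shiftLeft TT_p107 15996)) 31992)) (Nat.shiftLeft (Nat.lor (Nat.lor TT_p108 (Nat.shiftLeft TT_p109 15996)) (Nat.shiftLeft (Nat.lor TT_p110 (Nat.shiftLeft TT_p111 15996)) 31992)) 63984)) 127968)) (Nat.shiftLeft (Nat.lor (Nat.lor (Nat.lor (Nat.lor TT_p112 (Nat.shiftLeft TT_p113 15996)) (Nat.shiftLeft (Nat.lor TT_p114 (Nat.shiftLeft TT_p115 15996)) 31992)) (Nat.shiftLeft (Nat.lor (Nat.lor TT_p116 (Nat.shiftLeft TT_p117 15996)) (Nat.shiftLeft (Nat.lor TT_p118 (Nat.shiftLeft TT_p119 15996)) 31992)) 63984)) (Nat.shiftLeft (Nat.lor (Nat.lor (Nat.lor TT_p120 (Nat.shiftLeft TT_p121 15996)) (Nat.shiftLeft (Nat.lor TT_p122 (Nat.shiftLeft TT_p123 15996)) 31992)) (Nat.shiftLeft (Nat.lor (Nat.lor TT_p124 (Nat.shiftLeft TT_p125 15996)) (Nat.shiftLeft (Nat.lor TT_p126 (Nat.shiftLeft (Nat.lor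 TT_p127 (Nat.shiftLeft TT_p128 15996)) 15996)) 31992)) 63984)) 127968)) 255936)) 511872)) 1023744))
noncomputable def TT_M1 : Nat := Nat.sub (Nat.shiftLeft 1 196608) 1
noncomputable def TT_M2 : Nat := Nat.sub (Nat.shiftLeft 1 768) 1
noncomputable def TT (p : Nat) : Nat :=
  force (Nat.shiftRight p 14) fun b1 => force (Nat.land (Nat.shiftRight p 6) 255) fun b2 =>
    Nat.land (Nat.shiftRight (Nat.land (Nat.shiftRight (Nat.land (Nat.shiftRight TT_T (Nat.mul b1 196608)) TT_M1) (Nat.mul b2 768)) TT_M2) (Nat.mul (Nat.land p 63) 12)) 4095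

noncomputable def F (g p : Nat) : Nat := TT (Nat.add (Nat.mul g 2058) p)

def progL : List (List Nat) := [
  [],
  [],
  [],
  [],
  [],
  [],
  [],
  [2, 2, 4, 5, 2, 0, 6, 4, 2, 0, 5, 1, 2, 3, 0, 6, 0, 3, 5, 3, 1, 4, 6, 2, 3, 0, 3, 0, 3, 2, 3, 3, 0, 4, 0, 0, 2, 4, 0, 2],
  [7, 7, 7, 7, 7, 7, 7],
  [3, 2, 2, 1, 5, 4, 3, 5, 6, 0, 6, 6, 3, 6, 5, 5],
  [9, 9, 9, 9, 9, 9, 9, 9, 9, 9, 9, 9, 9, 9, 9, 9, 9, 9, 9, 9, 9, 9, 9, 9, 9, 9, 9],
  [8, 10, 8, 9],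
  [9, 11, 11, 11, 11, 11, 11, 11],
  [0, 0, 0, 4, 6, 0, 6, 2, 6, 1, 4, 3, 3, 4, 5, 1],
  [13, 13, 13],
  [8, 14, 8, 13],
  [15, 15, 15, 15],
  [6, 4, 3, 3, 2, 6, 2, 3, 3, 4, 2, 0, 0, 2, 4, 0],
  [17],
  [8, 18, 8, 17],
  [17, 19],
  [12, 16, 12, 20],
  [4, 6, 6, 2, 5, 6, 2, 6, 2, 1, 2, 1, 3, 0, 1, 6],
  [22, 22, 22],
  [8, 23, 8, 22],
  [24, 24, 24, 24, 24],
  [4, 0, 1, 1, 0, 3, 1, 3, 6, 5, 4, 4, 4, 3, 4, 1],
  [26, 26, 26, 26, 26, 26],
  [8, 27, 8, 26],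
  [28, 28, 28, 28, 28],
  [4, 1, 3, 4, 5, 5, 3, 6, 1, 1, 0, 5, 3, 4, 0, 5],
  [30, 30, 30, 30, 30],
  [8, 31, 8, 30],
  [30, 32, 32, 32, 32, 32, 32, 32, 32],
  [25, 29, 33, 16, 20, 12],
  [0, 2, 5, 6, 2, 1, 2, 4, 1, 3, 6, 3, 0, 2, 1, 5],
  [35, 35, 35, 35, 35, 35],
  [2, 0, 6, 6, 3, 4, 6, 5, 2, 0, 4, 6, 6, 1, 4, 5],
  [37, 37, 37, 37, 37],
  [3, 1, 2, 2, 2, 1, 2, 5, 5, 5, 1, 2, 1, 2, 1, 3],
  [39],
  [6, 5, 2, 4, 2, 5, 0, 1, 0, 1, 4, 6, 5, 5, 1, 5],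
  [41],
  [0, 5, 4, 2, 0, 6, 1, 3, 4, 6, 4, 6, 4, 3, 3, 2],
  [43, 43, 43, 43, 43, 43, 43],
  [3, 3, 5, 1, 5, 0, 5, 6, 3, 5, 1, 5, 4, 2, 5, 2],
  [45, 45],
  [5, 3, 5, 0, 6, 6, 2, 3, 2, 0, 0, 6, 1, 5, 2, 2],
  [47, 47, 47, 47, 47, 47, 47, 47, 47, 47, 47, 47, 47, 47],
  [2, 3, 1, 5, 2, 2, 2, 0, 5, 3, 4, 1, 1, 6, 4, 4],
  [49, 49, 49, 49, 49, 49, 49],
  [3, 4, 3, 0, 3, 0, 4, 5, 3, 5, 6, 1, 6, 6, 5, 4],
  [51, 51],
  [3, 3, 0, 3, 3, 1, 6, 6, 5, 4, 5, 3, 0, 5, 6, 0],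
  [53, 53, 53, 53, 53, 53, 53, 53, 53, 53, 53, 53, 53, 53],
  [4, 5, 4, 2, 6, 1, 0, 4, 2, 1, 0, 6, 4, 0, 2, 6],
  [55, 55],
  [5, 5, 6, 4, 0, 4, 3, 4, 0, 3, 1, 3, 5, 5, 4, 4],
  [57, 57],
  [0, 3, 4, 0, 3, 3, 3, 5, 4, 0, 0, 1, 4, 0, 1, 3],
  [59, 59],
  [1, 4, 1, 4, 4, 6, 4, 5, 4, 4, 3, 5, 5, 1, 4, 2],
  [61, 61, 61, 61, 61, 61, 61, 61, 61, 61, 61, 61, 61, 61],
  [5, 4, 3, 5, 3, 1, 4, 2, 4, 0, 6, 1, 5, 4, 5, 6],
  [63, 63, 63, 63, 63],
  [4, 4, 2, 5, 6, 6, 5, 2, 3, 4, 6, 3, 4, 6, 6, 1],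
  [65, 65],
  [36],
  [38],
  [40],
  [42],
  [44],
  [46],
  [48],
  [50],
  [52],
  [54],
  [56],
  [58],
  [60],
  [62],
  [64],
  [66]]
def prog (g : Nat) : List Nat := progL.getD g []

noncomputable def FPL_T : Nat := (Nat.lor (Nat.lor (Nat.lor (Nat.lor (Nat.lor (Nat.lor (Nat.lor (Nat.lor FPL_p0 (Nat.shiftLeft FPL_p1 15994)) (Nat.shiftLeft (Nat.lor FPL_p2 (Nat.shiftLeft FPL_p3 15994)) 31988)) (Nat.shiftLeft (Nat.lor (Nat.lor FPL_p4 (Nat.shiftLeft FPL_p5 15994)) (Nat.shiftLeft (Nat.lor FPL_p6 (Nat.shiftLeft FPL_p7 15994)) 31988)) 63976)) (Nat.shiftLeft (Nat.lor (Nat.lor (Nat.lor FPL_p8 (Nat.shiftLeft FPL_p9 15994)) (Nat.shiftLeft (Nat.lor FPL_p10 (Nat.shiftLeft FPL_p11 15994)) 31988)) (Nat.shiftLeft (Nat.lor (Nat.lor FPL_p12 (Nat.shiftLeft FPL_p13 15994)) (Nat.shiftLeft (Nat.lor FPL_p14 (Nat.shiftLeft FPL_p15 15994)) 31988)) 63976)) 127952)) (Nat.shiftLeft (Nat.lor (Nat.lor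 (Nat.lor (Nat.lor FPL_p16 (Nat.shiftLeft FPL_p17 15994)) (Nat.shiftLeft (Nat.lor FPL_p18 (Nat.shiftLeft FPL_p19 15994)) 31988)) (Nat.shiftLeft (Nat.lor (Nat.lor FPL_p20 (Nat.shiftLeft FPL_p21 15994)) (Nat.shiftLeft (Nat.lor FPL_p22 (Nat.shiftLeft FPL_p23 15994)) 31988)) 63976)) (Nat.shiftLeft (Nat.lor (Nat.lor (Nat.lor FPL_p24 (Nat.shiftLeft FPL_p25 15994)) (Nat.shiftLeft (Nat.lor FPL_p26 (Nat.shiftLeft FPL_p27 15994)) 31988)) (Nat.shiftLeft (Nat.lor (Nat.lor FPL_p28 (Nat.shiftLeft FPL_p29 15994)) (Nat.shiftLeft (Nat.lor FPL_p30 (Nat.shiftLeft FPL_p31 15994)) 31988)) 63976)) 127952)) 255904)) (Nat.shiftLeft (Nat.lor (Nat.lor (Nat.lor (Nat.lor (Nat.lor FPL_p32 (Nat.shiftLeft FPL_p33 15994)) (Nat.shiftLeft (Nat.lor FPL_p34 (Nat.shiftLeft FPL_p35 15994)) 31988)) (Nat.shiftLeft (Nat.lor (Nat.lor FPL_p36 (Nat.shiftLeft FPL_p37 15994)) (Nat.shiftLeft (Nat.lor FPL_p38 (Nat.shiftLeft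 FPL_p39 15994)) 31988)) 63976)) (Nat.shiftLeft (Nat.lor (Nat.lor (Nat.lor FPL_p40 (Nat.shiftLeft FPL_p41 15994)) (Nat.shiftLeft (Nat.lor FPL_p42 (Nat.shiftLeft FPL_p43 15994)) 31988)) (Nat.shiftLeft (Nat.lor (Nat.lor FPL_p44 (Nat.shiftLeft FPL_p45 15994)) (Nat.shiftLeft (Nat.lor FPL_p46 (Nat.shiftLeft FPL_p47 15994)) 31988)) 63976)) 127952)) (Nat.shiftLeft (Nat.lor (Nat.lor (Nat.lor (Nat.lor FPL_p48 (Nat.shiftLeft FPL_p49 15994)) (Nat.shiftLeft (Nat.lor FPL_p50 (Nat.shiftLeft FPL_p51 15994)) 31988)) (Nat.shiftLeft (Nat.lor (Nat.lor FPL_p52 (Nat.shiftLeft FPL_p53 15994)) (Nat.shiftLeft (Nat.lor FPL_p54 (Nat.shiftLeft FPL_p55 15994)) 31988)) 63976)) (Nat.shiftLeft (Nat.lor (Nat.lor (Nat.lor FPL_p56 (Nat.shiftLeft FPL_p57 15994)) (Nat.shiftLeft (Nat.lor FPL_p58 (Nat.shiftLeft FPL_p59 15994)) 31988)) (Nat.shiftLeft (Nat.lor (Nat.lor FPL_p60 (Nat.shiftLeft FPL_p61 15994)) (Nat.shiftLeft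 (Nat.lor FPL_p62 (Nat.shiftLeft FPL_p63 15994)) 31988)) 63976)) 127952)) 255904)) 511808)) (Nat.shiftLeft (Nat.lor (Nat.lor (Nat.lor (Nat.lor (Nat.lor (Nat.lor FPL_p64 (Nat.shiftLeft FPL_p65 15994)) (Nat.shiftLeft (Nat.lor FPL_p66 (Nat.shiftLeft FPL_p67 15994)) 31988)) (Nat.shiftLeft (Nat.lor (Nat.lor FPL_p68 (Nat.shiftLeft FPL_p69 15994)) (Nat.shiftLeft (Nat.lor FPL_p70 (Nat.shiftLeft FPL_p71 15994)) 31988)) 63976)) (Nat.shiftLeft (Nat.lor (Nat.lor (Nat.lor FPL_p72 (Nat.shiftLeft FPL_p73 15994)) (Nat.shiftLeft (Nat.lor FPL_p74 (Nat.shiftLeft FPL_p75 15994)) 31988)) (Nat.shiftLeft (Nat.lor (Nat.lor FPL_p76 (Nat.shiftLeft FPL_p77 15994)) (Nat.shiftLeft (Nat.lor FPL_p78 (Nat.shiftLeft FPL_p79 15994)) 31988)) 63976)) 127952)) (Nat.shiftLeft (Nat.lor (Nat.lor (Nat.lor (Nat.lor FPL_p80 (Nat.shiftLeft FPL_p81 15994)) (Nat.shiftLeft (Nat.lor FPL_p82 (Nat.shiftLeft FPL_p83 15994))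 31988)) (Nat.shiftLeft (Nat.lor (Nat.lor FPL_p84 (Nat.shiftLeft FPL_p85 15994)) (Nat.shiftLeft (Nat.lor FPL_p86 (Nat.shiftLeft FPL_p87 15994)) 31988)) 63976)) (Nat.shiftLeft (Nat.lor (Nat.lor (Nat.lor FPL_p88 (Nat.shiftLeft FPL_p89 15994)) (Nat.shiftLeft (Nat.lor FPL_p90 (Nat.shiftLeft FPL_p91 15994)) 31988)) (Nat.shiftLeft (Nat.lor (Nat.lor FPL_p92 (Nat.shiftLeft FPL_p93 15994)) (Nat.shiftLeft (Nat.lor FPL_p94 (Nat.shiftLeft FPL_p95 15994)) 31988)) 63976)) 127952)) 255904)) (Nat.shiftLeft (Nat.lor (Nat.lor (Nat.lor (Nat.lor (Nat.lor FPL_p96 (Nat.shiftLeft FPL_p97 15994)) (Nat.shiftLeft (Nat.lor FPL_p98 (Nat.shiftLeft FPL_p99 15994)) 31988)) (Nat.shiftLeft (Nat.lor (Nat.lor FPL_p100 (Nat.shiftLeft FPL_p101 15994)) (Nat.shiftLeft (Nat.lor FPL_p102 (Nat.shiftLeft FPL_p103 15994)) 31988)) 63976)) (Nat.shiftLeft (Nat.lor (Nat.lor (Nat.lor FPL_p104 (Nat.shiftLeft FPL_p105 15994))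 (Nat.shiftLeft (Nat.lor FPL_p106 (Nat.shiftLeft FPL_p107 15994)) 31988)) (Nat.shiftLeft (Nat.lor (Nat.lor FPL_p108 (Nat.shiftLeft FPL_p109 15994)) (Nat.shiftLeft (Nat.lor FPL_p110 (Nat.shiftLeft FPL_p111 15994)) 31988)) 63976)) 127952)) (Nat.shiftLeft (Nat.lor (Nat.lor (Nat.lor (Nat.lor FPL_p112 (Nat.shiftLeft FPL_p113 15994)) (Nat.shiftLeft (Nat.lor FPL_p114 (Nat.shiftLeft FPL_p115 15994)) 31988)) (Nat.shiftLeft (Nat.lor (Nat.lor FPL_p116 (Nat.shiftLeft FPL_p117 15994)) (Nat.shiftLeft (Nat.lor FPL_p118 (Nat.shiftLeft FPL_p119 15994)) 31988)) 63976)) (Nat.shiftLeft (Nat.lor (Nat.lor (Nat.lor FPL_p120 (Nat.shiftLeft FPL_p121 15994)) (Nat.shiftLeft (Nat.lor FPL_p122 (Nat.shiftLeft FPL_p123 15994)) 31988)) (Nat.shiftLeft (Nat.lor (Nat.lor FPL_p124 (Nat.shiftLeft FPL_p125 15994)) (Nat.shiftLeft (Nat.lor FPL_p126 (Nat.shiftLeft (Nat.lor FPL_p127 (Nat.shiftLeft FPL_p128 15994)) 15994))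 31988)) 63976)) 127952)) 255904)) 511808)) 1023616)) (Nat.shiftLeft (Nat.lor (Nat.lor (Nat.lor (Nat.lor (Nat.lor (Nat.lor (Nat.lor FPL_p129 (Nat.shiftLeft FPL_p130 15994)) (Nat.shiftLeft (Nat.lor FPL_p131 (Nat.shiftLeft FPL_p132 15994)) 31988)) (Nat.shiftLeft (Nat.lor (Nat.lor FPL_p133 (Nat.shiftLeft FPL_p134 15994)) (Nat.shiftLeft (Nat.lor FPL_p135 (Nat.shiftLeft FPL_p136 15994)) 31988)) 63976)) (Nat.shiftLeft (Nat.lor (Nat.lor (Nat.lor FPL_p137 (Nat.shiftLeft FPL_p138 15994)) (Nat.shiftLeft (Nat.lor FPL_p139 (Nat.shiftLeft FPL_p140 15994)) 31988)) (Nat.shiftLeft (Nat.lor (Nat.lor FPL_p141 (Nat.shiftLeft FPL_p142 15994)) (Nat.shiftLeft (Nat.lor FPL_p143 (Nat.shiftLeft FPL_p144 15994)) 31988)) 63976)) 127952)) (Nat.shiftLeft (Nat.lor (Nat.lor (Nat.lor (Nat.lor FPL_p145 (Nat.shiftLeft FPL_p146 15994)) (Nat.shiftLeft (Nat.lor FPL_p147 (Nat.shiftLeft FPL_p148 15994)) 31988)) (Nat.shiftLeft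 (Nat.lor (Nat.lor FPL_p149 (Nat.shiftLeft FPL_p150 15994)) (Nat.shiftLeft (Nat.lor FPL_p151 (Nat.shiftLeft FPL_p152 15994)) 31988)) 63976)) (Nat.shiftLeft (Nat.lor (Nat.lor (Nat.lor FPL_p153 (Nat.shiftLeft FPL_p154 15994)) (Nat.shiftLeft (Nat.lor FPL_p155 (Nat.shiftLeft FPL_p156 15994)) 31988)) (Nat.shiftLeft (Nat.lor (Nat.lor FPL_p157 (Nat.shiftLeft FPL_p158 15994)) (Nat.shiftLeft (Nat.lor FPL_p159 (Nat.shiftLeft FPL_p160 15994)) 31988)) 63976)) 127952)) 255904)) (Nat.shiftLeft (Nat.lor (Nat.lor (Nat.lor (Nat.lor (Nat.lor FPL_p161 (Nat.shiftLeft FPL_p162 15994)) (Nat.shiftLeft (Nat.lor FPL_p163 (Nat.shiftLeft FPL_p164 15994)) 31988)) (Nat.shiftLeft (Nat.lor (Nat.lor FPL_p165 (Nat.shiftLeft FPL_p166 15994)) (Nat.shiftLeft (Nat.lor FPL_p167 (Nat.shiftLeft FPL_p168 15994)) 31988)) 63976)) (Nat.shiftLeft (Nat.lor (Nat.lor (Nat.lor FPL_p169 (Nat.shiftLeft FPL_p170 15994)) (Nat.shiftLeft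 (Nat.lor FPL_p171 (Nat.shiftLeft FPL_p172 15994)) 31988)) (Nat.shiftLeft (Nat.lor (Nat.lor FPL_p173 (Nat.shiftLeft FPL_p174 15994)) (Nat.shiftLeft (Nat.lor FPL_p175 (Nat.shiftLeft FPL_p176 15994)) 31988)) 63976)) 127952)) (Nat.shiftLeft (Nat.lor (Nat.lor (Nat.lor (Nat.lor FPL_p177 (Nat.shiftLeft FPL_p178 15994)) (Nat.shiftLeft (Nat.lor FPL_p179 (Nat.shiftLeft FPL_p180 15994)) 31988)) (Nat.shiftLeft (Nat.lor (Nat.lor FPL_p181 (Nat.shiftLeft FPL_p182 15994)) (Nat.shiftLeft (Nat.lor FPL_p183 (Nat.shiftLeft FPL_p184 15994)) 31988)) 63976)) (Nat.shiftLeft (Nat.lor (Nat.lor (Nat.lor FPL_p185 (Nat.shiftLeft FPL_p186 15994)) (Nat.shiftLeft (Nat.lor FPL_p187 (Nat.shiftLeft FPL_p188 15994)) 31988)) (Nat.shiftLeft (Nat.lor (Nat.lor FPL_p189 (Nat.shiftLeft FPL_p190 15994)) (Nat.shiftLeft (Nat.lor FPL_p191 (Nat.shiftLeft FPL_p192 15994)) 31988)) 63976)) 127952)) 255904)) 511808)) (Nat.shiftLeft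 (Nat.lor (Nat.lor (Nat.lor (Nat.lor (Nat.lor (Nat.lor FPL_p193 (Nat.shiftLeft FPL_p194 15994)) (Nat.shiftLeft (Nat.lor FPL_p195 (Nat.shiftLeft FPL_p196 15994)) 31988)) (Nat.shiftLeft (Nat.lor (Nat.lor FPL_p197 (Nat.shiftLeft FPL_p198 15994)) (Nat.shiftLeft (Nat.lor FPL_p199 (Nat.shiftLeft FPL_p200 15994)) 31988)) 63976)) (Nat.shiftLeft (Nat.lor (Nat.lor (Nat.lor FPL_p201 (Nat.shiftLeft FPL_p202 15994)) (Nat.shiftLeft (Nat.lor FPL_p203 (Nat.shiftLeft FPL_p204 15994)) 31988)) (Nat.shiftLeft (Nat.lor (Nat.lor FPL_p205 (Nat.shiftLeft FPL_p206 15994)) (Nat.shiftLeft (Nat.lor FPL_p207 (Nat.shiftLeft FPL_p208 15994)) 31988)) 63976)) 127952)) (Nat.shiftLeft (Nat.lor (Nat.lor (Nat.lor (Nat.lor FPL_p209 (Nat.shiftLeft FPL_p210 15994)) (Nat.shiftLeft (Nat.lor FPL_p211 (Nat.shiftLeft FPL_p212 15994)) 31988)) (Nat.shiftLeft (Nat.lor (Nat.lor FPL_p213 (Nat.shiftLeft FPL_p214 15994)) (Nat.shiftLeft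 (Nat.lor FPL_p215 (Nat.shiftLeft FPL_p216 15994)) 31988)) 63976)) (Nat.shiftLeft (Nat.lor (Nat.lor (Nat.lor FPL_p217 (Nat.shiftLeft FPL_p218 15994)) (Nat.shiftLeft (Nat.lor FPL_p219 (Nat.shiftLeft FPL_p220 15994)) 31988)) (Nat.shiftLeft (Nat.lor (Nat.lor FPL_p221 (Nat.shiftLeft FPL_p222 15994)) (Nat.shiftLeft (Nat.lor FPL_p223 (Nat.shiftLeft FPL_p224 15994)) 31988)) 63976)) 127952)) 255904)) (Nat.shiftLeft (Nat.lor (Nat.lor (Nat.lor (Nat.lor (Nat.lor FPL_p225 (Nat.shiftLeft FPL_p226 15994)) (Nat.shiftLeft (Nat.lor FPL_p227 (Nat.shiftLeft FPL_p228 15994)) 31988)) (Nat.shiftLeft (Nat.lor (Nat.lor FPL_p229 (Nat.shiftLeft FPL_p230 15994)) (Nat.shiftLeft (Nat.lor FPL_p231 (Nat.shiftLeft FPL_p232 15994)) 31988)) 63976)) (Nat.shiftLeft (Nat.lor (Nat.lor (Nat.lor FPL_p233 (Nat.shiftLeft FPL_p234 15994)) (Nat.shiftLeft (Nat.lor FPL_p235 (Nat.shiftLeft FPL_p236 15994)) 31988)) (Nat.shiftLeft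 (Nat.lor (Nat.lor FPL_p237 (Nat.shiftLeft FPL_p238 15994)) (Nat.shiftLeft (Nat.lor FPL_p239 (Nat.shiftLeft FPL_p240 15994)) 31988)) 63976)) 127952)) (Nat.shiftLeft (Nat.lor (Nat.lor (Nat.lor (Nat.lor FPL_p241 (Nat.shiftLeft FPL_p242 15994)) (Nat.shiftLeft (Nat.lor FPL_p243 (Nat.shiftLeft FPL_p244 15994)) 31988)) (Nat.shiftLeft (Nat.lor (Nat.lor FPL_p245 (Nat.shiftLeft FPL_p246 15994)) (Nat.shiftLeft (Nat.lor FPL_p247 (Nat.shiftLeft FPL_p248 15994)) 31988)) 63976)) (Nat.shiftLeft (Nat.lor (Nat.lor (Nat.lor FPL_p249 (Nat.shiftLeft FPL_p250 15994)) (Nat.shiftLeft (Nat.lor FPL_p251 (Nat.shiftLeft FPL_p252 15994)) 31988)) (Nat.shiftLeft (Nat.lor (Nat.lor FPL_p253 (Nat.shiftLeft FPL_p254 15994)) (Nat.shiftLeft (Nat.lor FPL_p255 (Nat.shiftLeft (Nat.lor FPL_p256 (Nat.shiftLeft FPL_p257 15994)) 15994)) 31988)) 63976)) 127952)) 255904)) 511808)) 1023616)) 2063226))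
noncomputable def FPL_M1 : Nat := Nat.sub (Nat.shiftLeft 1 90112) 1
noncomputable def FPL_M2 : Nat := Nat.sub (Nat.shiftLeft 1 704) 1
noncomputable def FPL (p : Nat) : Nat :=
  force (Nat.shiftRight p 12) fun b1 => force (Nat.land (Nat.shiftRight p 5) 127) fun b2 =>
    Nat.land (Nat.shiftRight (Nat.land (Nat.shiftRight (Nat.land (Nat.shiftRight FPL_T (Nat.mul b1 90112)) FPL_M1) (Nat.mul b2 704)) FPL_M2) (Nat.mul (Nat.land p 31) 22)) 4194303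

noncomputable def DD : Frs := ⟨8, 66730, FPL, 16, 67, 7, 187425, [1653, 1783, 1069, 300]⟩

noncomputable def OM_T : Nat := OM_p0
noncomputable def OM_M1 : Nat := Nat.sub (Nat.shiftLeft 1 49152) 1
noncomputable def OM_M2 : Nat := Nat.sub (Nat.shiftLeft 1 384) 1
noncomputable def OM (p : Nat) : Nat :=
  force (Nat.shiftRight p 12) fun b1 => force (Nat.land (Nat.shiftRight p 5) 127) fun b2 =>
    Nat.land (Nat.shiftRight (Nat.land (Nat.shiftRight (Nat.land (Nat.shiftRight OM_T (Nat.mul b1 49152)) OM_M1) (Nat.mul b2 384)) OM_M2) (Nat.mul (Nat.land p 31) 12)) 4095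

noncomputable def OI_T : Nat := (Nat.lor OI_p0 (Nat.shiftLeft OI_p1 15993))
noncomputable def OI_M1 : Nat := Nat.sub (Nat.shiftLeft 1 36864) 1
noncomputable def OI_M2 : Nat := Nat.sub (Nat.shiftLeft 1 288) 1
noncomputable def OI (p : Nat) : Nat :=
  force (Nat.shiftRight p 12) fun b1 => force (Nat.land (Nat.shiftRight p 5) 127) fun b2 =>
    Nat.land (Nat.shiftRight (Nat.land (Nat.shiftRight (Nat.land (Nat.shiftRight OI_T (Nat.mul b1 36864)) OI_M1) (Nat.mul b2 288)) OI_M2) (Nat.mul (Nat.land p 31) 9)) 511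

def cR_n : Nat := nat_lit 336
def cR_w : Nat := nat_lit 9
def cR_mask : Nat := nat_lit 511
def cR_L : Nat := nat_lit 3024
def cR_maskL : Nat := nat_lit 0xffffffffffffffffffffffffffffffffffffffffffffffffffffffffffffffffffffffffffffffffffffffffffffffffffffffffffffffffffffffffffffffffffffffffffffffffffffffffffffffffffffffffffffffffffffffffffffffffffffffffffffffffffffffffffffffffffffffffffffffffffffffffffffffffffffffffffffffffffffffffffffffffffffffffffffffffffffffffffffffffffffffffffffffffffffffffffffffffffffffffffffffffffffffffffffffffffffffffffffffffffffffffffffffffffffffffffffffffffffffffffffffffffffffffffffffffffffffffffffffffffffffffffffffffffffffffffffffffffffffffffffffffffffffffffffffffffffffffffffffffffffffffffffffffffffffffffffffffffffffffffffffffffffffffffffffffffffffffffffffffffffffffffffffffffffffffffffffffffffffffffffffffffffffffffffffffffffffffffffffffffffffffffffffffffffffffffffffffffff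
def cR_idc : Nat := nat_lit 0xa7d3a9b4ca5d2a9348a3d1a8b44a1d0a83409fcfa7b3c9dcea73389bcda6b3499cca633097cba5b2c95caa532893c9a4b2491c8a43208fc7a3b1c8dc6a33188bc5a2b1489c4a231087c3a1b0c85c2a130883c1a0b0481c0a03007fbf9fafc7dbe9f2f87bbd9eaf479bc9e2f077bb9daec75ba9d2e873b99cae471b89c2e06fb79badc6db69b2d86bb59aad469b49a2d067b399acc65b2992c863b198ac461b0982c05faf97abc5dae972b85bad96ab459ac962b057ab95aac55aa952a853a994aa451a8942a04fa793a9c4da6932984ba592a9449a49229047a391a8c45a29128843a190a8441a0902803f9f8fa7c3d9e8f2783b9d8ea74399c8e270379b8da6c359a8d26833998ca6431988c2602f978ba5c2d968b2582b958aa5429948a250279389a4c259289248239188a442190882401f8f87a3c1d8e872381b8d86a34198c86230178b85a2c158a85228138984a241188842200f8783a1c0d86832180b8582a14098482210078381a0c058281208038180a04018080200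
def cR_T : List Nat := [nat_lit 0x6b53e9cd1862d67ea41c472566a9752a9b1a96d3293486c1628a6776422222ea3d05e14b5ea3661429151170f8619be7d4653bce66e50d92ddd179350e3f045a3f8327b9d50206239bc75f53d1ccca78799ccecc43b94ce1d6124bcda6a992d4d176ab988fa1d2f612fa592a6eca24f259248e431590414bac44f47a00878dc6631130fa522c298a42a24e845c421f0d3404014d354a08e4932fa16160e84c1e0cd95711a04f2653d8eab00b334cb017fa3df8fd70bedf2f77abd15acf293c5deed4213dd40674b9dcce463b8dc4e06fb78a0dc6db6944a06bb21aad448b48e06112b4080ce6632d9204633156cbf2430580340a2c978ba5cadd007e59ac55e2b29ab04e42552a14ca551a6d429f4ea7134984b254ee92482251c8c452210c7c41a04fe7d371e8f0763a1cce2171b084da6c359a404663218cac602f170b6592b954a8000e944884e2693094492391486411f8f4783a190c05a371a8cc622f060b054281309044200f0703418040542611078341609038140601, nat_lit 0xa5d3cc14e9c368c70d892b2551858bb64928962288e359ad3687067ed1a983c83d01eb1698c85f24546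529a11ba4d227b479e3d08345664968876253923d4259c0521412a9ea053f9a49e5f3e91af26d146fcee75398ca066f204c299d296883a98d339942d47304ecba5b2b6e4a5ff262b8b2447826a7cb81360c7e3b1c84c68e60d7345daa9a8ac4db6e788b8a1f0e35a21e2c950c3172922f1b4b70a7bc2181056f4120609693bce8af0a868c88e803f9c0837dbf1f4f87b33838f328bc9e0ee76125d6e36bba196e55d150b2e11d0a9a8dd1b9f550d96c295ac430c34c0ed1123147ecf6687994c863add2ac461b08cc335faf97abb4e2e16cb55a2c960ae56a18d8ab552a54e03520a144a04f1c536994b9fd28934883d1e8d45a250e8542209007e3e1ecf2773a9a4e47037880dc4c009a8d06732888c4612f9747a5a2c1580a4e29948a04f088989600241188842200f8163b188bc72381b0d06430170b456291389446210f87436190b858281208038180a040180802]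
def cR_prog : List (Nat × Nat × Nat) := [(nat_lit 1, nat_lit 1, nat_lit 0), (nat_lit 1, nat_lit 1, nat_lit 0), (nat_lit 0, nat_lit 3, nat_lit 2), (nat_lit 0, nat_lit 0, nat_lit 4), (nat_lit 0, nat_lit 0, nat_lit 4), (nat_lit 0, nat_lit 3, nat_lit 3), (nat_lit 0, nat_lit 6, nat_lit 7), (nat_lit 0, nat_lit 0, nat_lit 8), (nat_lit 0, nat_lit 0, nat_lit 8), (nat_lit 0, nat_lit 0, nat_lit 10), (nat_lit 0, nat_lit 0, nat_lit 10), (nat_lit 0, nat_lit 0, nat_lit 11), (nat_lit 0, nat_lit 0, nat_lit 13), (nat_lit 0, nat_lit 0, nat_lit 13), (nat_lit 0, nat_lit 0, nat_lit 14), (nat_lit 0, nat_lit 14, nat_lit 14), (nat_lit 0, nat_lit 0, nat_lit 15), (nat_lit 0, nat_lit 0, nat_lit 15), (nat_lit 0, nat_lit 0, nat_lit 17), (nat_lit 0, nat_lit 0, nat_lit 18), (nat_lit 0, nat_lit 0, nat_lit 19), (nat_lit 0, nat_lit 0, nat_lit 20), (nat_lit 0, nat_lit 0, nat_lit 20), (nat_lit 0, nat_lit 0, nat_lit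 22), (nat_lit 0, nat_lit 0, nat_lit 9), (nat_lit 0, nat_lit 26, nat_lit 26), (nat_lit 0, nat_lit 0, nat_lit 26), (nat_lit 0, nat_lit 0, nat_lit 28), (nat_lit 0, nat_lit 0, nat_lit 29), (nat_lit 0, nat_lit 0, nat_lit 29), (nat_lit 0, nat_lit 0, nat_lit 30), (nat_lit 0, nat_lit 0, nat_lit 32), (nat_lit 0, nat_lit 0, nat_lit 32), (nat_lit 0, nat_lit 0, nat_lit 34), (nat_lit 0, nat_lit 33, nat_lit 32), (nat_lit 0, nat_lit 0, nat_lit 34), (nat_lit 0, nat_lit 0, nat_lit 35), (nat_lit 0, nat_lit 0, nat_lit 35), (nat_lit 0, nat_lit 0, nat_lit 36), (nat_lit 0, nat_lit 0, nat_lit 38), (nat_lit 0, nat_lit 0, nat_lit 38), (nat_lit 0, nat_lit 0, nat_lit 39), (nat_lit 0, nat_lit 0, nat_lit 40), (nat_lit 0, nat_lit 0, nat_lit 9), (nat_lit 0, nat_lit 39, nat_lit 45), (nat_lit 0, nat_lit 0, nat_lit 46), (nat_lit 0, nat_lit 0, nat_lit 46), (nat_lit 0, nat_lit 0, nat_lit 48), (nat_lit 0, nat_lit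 0, nat_lit 48), (nat_lit 0, nat_lit 0, nat_lit 49), (nat_lit 0, nat_lit 0, nat_lit 51), (nat_lit 0, nat_lit 45, nat_lit 49), (nat_lit 0, nat_lit 0, nat_lit 51), (nat_lit 0, nat_lit 0, nat_lit 52), (nat_lit 0, nat_lit 0, nat_lit 52), (nat_lit 0, nat_lit 0, nat_lit 53), (nat_lit 0, nat_lit 0, nat_lit 55), (nat_lit 0, nat_lit 0, nat_lit 6), (nat_lit 1, nat_lit 33, nat_lit 0), (nat_lit 1, nat_lit 1, nat_lit 0), (nat_lit 0, nat_lit 16, nat_lit 2), (nat_lit 0, nat_lit 0, nat_lit 17), (nat_lit 0, nat_lit 0, nat_lit 4), (nat_lit 0, nat_lit 0, nat_lit 19), (nat_lit 0, nat_lit 0, nat_lit 6), (nat_lit 0, nat_lit 0, nat_lit 40), (nat_lit 0, nat_lit 0, nat_lit 22), (nat_lit 0, nat_lit 7, nat_lit 0), (nat_lit 0, nat_lit 43, nat_lit 24), (nat_lit 0, nat_lit 0, nat_lit 11), (nat_lit 0, nat_lit 0, nat_lit 45), (nat_lit 0, nat_lit 0, nat_lit 27), (nat_lit 0, nat_lit 0, nat_lit 14), (nat_lit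 0, nat_lit 0, nat_lit 15), (nat_lit 0, nat_lit 0, nat_lit 16), (nat_lit 0, nat_lit 0, nat_lit 17), (nat_lit 0, nat_lit 0, nat_lit 32), (nat_lit 0, nat_lit 18, nat_lit 17), (nat_lit 0, nat_lit 0, nat_lit 18), (nat_lit 0, nat_lit 0, nat_lit 2), (nat_lit 1, nat_lit 12, nat_lit 0), (nat_lit 0, nat_lit 13, nat_lit 13), (nat_lit 0, nat_lit 0, nat_lit 14), (nat_lit 0, nat_lit 0, nat_lit 15), (nat_lit 0, nat_lit 0, nat_lit 16), (nat_lit 0, nat_lit 0, nat_lit 5), (nat_lit 0, nat_lit 5, nat_lit 0)]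
def cR_s0 : Nat := nat_lit 0x6b53e9cd1862d67ea41c472566a9752a9b1a96d3293486c1628a6776422222ea3d05e14b5ea3661429151170f8619be7d4653bce66e50d92ddd179350e3f045a3f8327b9d50206239bc75f53d1ccca78799ccecc43b94ce1d6124bcda6a992d4d176ab988fa1d2f612fa592a6eca24f259248e431590414bac44f47a00878dc6631130fa522c298a42a24e845c421f0d3404014d354a08e4932fa16160e84c1e0cd95711a04f2653d8eab00b334cb017fa3df8fd70bedf2f77abd15acf293c5deed4213dd40674b9dcce463b8dc4e06fb78a0dc6db6944a06bb21aad448b48e06112b4080ce6632d9204633156cbf2430580340a2c978ba5cadd007e59ac55e2b29ab04e42552a14ca551a6d429f4ea7134984b254ee92482251c8c452210c7c41a04fe7d371e8f0763a1cce2171b084da6c359a404663218cac602f170b6592b954a8000e944884e2693094492391486411f8f4783a190c05a371a8cc622f060b054281309044200f0703418040542611078341609038140601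
def cR_s1 : Nat := nat_lit 0x871c470db8dd1874107cc9d773063c8a424599428e6045242491157a515ee648b88e78ff844ac7e305927d0d4e64aad8a0a10b842f2927071f51a6b8458113661893af08c1bde5392dcee166e86a4c0a8377168267b4c8a685077e81e888d383b5a6566a9e05d373296184898934909471233c0c9b4ba1e6ca77c19a03400c17950142bd2654553f9516cd0764018725750964c945acbe9463724c5a8dc83214f2b9502a444ba72a94c24a224d5212e6cad14416178e55a1e280f97c5ca1af14d4f1eac5babf59825112081261ce9a818a27533069a8243b7e5048c7a061b46d3848a71031d6503de2e3a5c403f117dbf9054821068925349470cf0405a7a486b364f41c529411d9ceb5eba632e2340ad88a155345b47c1e201acd88f005bccd279d432200dade3e7e3023c10b8209d8963196c3d474c659655c8b7ac506e4c91854812c578d4662a288b1d0961a009e73401b205a276f9343a74219dd587d472c0645d82b98e4f6609a67d4d77a2a18e0464592ac69f898be00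
def cR_s2 : Nat := nat_lit 0x8e51654b1a552d5348083329c9630099121a30c49a92e9cc1276be7a39e012749021683997cf0363c9353544259a4ad92ca7c8381b058c9f5db4f2d3663e98833a57f0289cf9d10f881e48693530a5c42e5dc5e413a64450513534a6c04fc0e21246b938bc5eb374bbbdec6f7933a3aec353622d119b251201f704255ce34a9581ecd09a8234ea39b3d333d612f5a0d16b3b9b946114924b033d97522503234d66768ace1a43f83ac1f0660c0eccb3160aae98ba44384aa80591ca927e1a42d463852ca422da2401c2a317f269ab1879d11bee6864cd8ae547a311a8e1f17e82af3f8c10afa3416c66ac43aa23c096382e1c210cb009a476baa9ee4a780d86a6c163adfe8331ae16ac33398a7f43451098c0c4146c6417203795a4f260dc06c42a0acea530b1c08a9f3a1189220869787a575e22c832c5b0be60a4291b8daa74096538861d4205a6b270aa150102d0a50120f32cf0447208c3afb96d00eeb72c12d3a046d89143476ec8a425c3d028f9324f0184e1428bf40200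
def cR_s3 : Nat := nat_lit 0x5524418db9ac01b48569b498aff5bd080e083bba1ce5087cea21157a35296ce640699b3097b107e402e972401277319762e91c05fd293a9d1da725b0449a98113a6710c4d44625399d96e1714868a52aca64b2d45044924e454aa2485fafc7dbe9f2803fbc4153775bbdec097949e3aec79b3e2d3e9e99da0b871b7dc2e07137966b4a652542d66ab61af36a3d1920e5754d262bd834220f332549a8b2e5a8401e1e5f2fd981b9292d58e4a1c6d86dc6e85026160aab95ab90253d409f2210c823e1ec15b2a954225108606c4ce718351a612638140e9cd146a311e8e1c0dd3c9d38a729084419e4f0f87b9208e6f3805d04819f88e3f1e4cc710e7b3e0d86a6c35a5d2c687307cc8654a188321829146572a870ec740b1e158aa542997cbd3c2793a324c5d31c927e3e9188aa75300d4b2c96a9146572d164728b451b8da20108bc6031194905a2c158aa140e1389848253b45c6634333003a1c5e4c8c2603d2c15eb258ca234c2608a1374d2c3d5e140a08180aab210080200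
noncomputable def cR_lev0 : Cfsg.Agent.Lib.PermComp.Core.Lev := Cfsg.Agent.Lib.PermComp.Core.mkLev cR_n cR_w cR_mask cR_L cR_maskL cR_idc (nat_lit 0) [cR_s3, cR_s2, cR_s1, cR_s0] [(nat_lit 1, cR_s0, nat_lit 0), (nat_lit 95, cR_s1, nat_lit 1), (nat_lit 3, cR_s0, nat_lit 1), (nat_lit 82, cR_s3, nat_lit 95), (nat_lit 138, cR_s2, nat_lit 95), (nat_lit 104, cR_s1, nat_lit 95), (nat_lit 157, cR_s0, nat_lit 95), (nat_lit 66, cR_s3, nat_lit 3), (nat_lit 81, cR_s2, nat_lit 3), (nat_lit 319, cR_s1, nat_lit 3), (nat_lit 7, cR_s0, nat_lit 3), (nat_lit 55, cR_s2, nat_lit 82), (nat_lit 136, cR_s0, nat_lit 82), (nat_lit 109, cR_s1, nat_lit 138), (nat_lit 210, cR_s0, nat_lit 138), (nat_lit 131, cR_s2, nat_lit 104), (nat_lit 21, cR_s2, nat_lit 157), (nat_lit 230, cR_s0, nat_lit 157), (nat_lit 94, cR_s2, nat_lit 66), (nat_lit 118, cR_s1, nat_lit 66), (nat_lit 33, cR_s0, nat_lit 66), (nat_lit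 222, cR_s1, nat_lit 81), (nat_lit 134, cR_s0, nat_lit 81), (nat_lit 119, cR_s3, nat_lit 319), (nat_lit 97, cR_s2, nat_lit 319), (nat_lit 306, cR_s1, nat_lit 319), (nat_lit 301, cR_s0, nat_lit 319), (nat_lit 321, cR_s3, nat_lit 7), (nat_lit 158, cR_s2, nat_lit 7), (nat_lit 140, cR_s1, nat_lit 7), (nat_lit 15, cR_s0, nat_lit 7), (nat_lit 245, cR_s1, nat_lit 55), (nat_lit 175, cR_s2, nat_lit 136), (nat_lit 312, cR_s1, nat_lit 136), (nat_lit 53, cR_s3, nat_lit 109), (nat_lit 292, cR_s1, nat_lit 109), (nat_lit 326, cR_s3, nat_lit 210), (nat_lit 189, cR_s2, nat_lit 210), (nat_lit 256, cR_s1, nat_lit 210), (nat_lit 272, cR_s0, nat_lit 210), (nat_lit 202, cR_s1, nat_lit 131), (nat_lit 204, cR_s0, nat_lit 131), (nat_lit 50, cR_s1, nat_lit 21), (nat_lit 42, cR_s0, nat_lit 21), (nat_lit 103, cR_s3, nat_lit 230), (nat_lit 148, cR_s2, nat_lit 230), (nat_lit 135, cR_s1, nat_lit 230), (nat_lit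 261, cR_s0, nat_lit 230), (nat_lit 43, cR_s1, nat_lit 94), (nat_lit 156, cR_s0, nat_lit 94), (nat_lit 35, cR_s3, nat_lit 118), (nat_lit 192, cR_s2, nat_lit 118), (nat_lit 26, cR_s1, nat_lit 118), (nat_lit 178, cR_s0, nat_lit 118), (nat_lit 51, cR_s3, nat_lit 33), (nat_lit 120, cR_s2, nat_lit 33), (nat_lit 45, cR_s1, nat_lit 33), (nat_lit 60, cR_s0, nat_lit 33), (nat_lit 86, cR_s2, nat_lit 222), (nat_lit 281, cR_s0, nat_lit 222), (nat_lit 48, cR_s2, nat_lit 134), (nat_lit 208, cR_s0, nat_lit 134), (nat_lit 25, cR_s2, nat_lit 119), (nat_lit 20, cR_s0, nat_lit 119), (nat_lit 161, cR_s0, nat_lit 97), (nat_lit 8, cR_s2, nat_lit 306), (nat_lit 63, cR_s3, nat_lit 301), (nat_lit 27, cR_s2, nat_lit 301), (nat_lit 304, cR_s0, nat_lit 301), (nat_lit 137, cR_s2, nat_lit 321), (nat_lit 289, cR_s1, nat_lit 321), (nat_lit 333, cR_s0, nat_lit 321), (nat_lit 9, cR_s1, nat_lit 158), (nat_lit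 231, cR_s0, nat_lit 158), (nat_lit 142, cR_s3, nat_lit 140), (nat_lit 122, cR_s1, nat_lit 140), (nat_lit 212, cR_s0, nat_lit 140), (nat_lit 193, cR_s3, nat_lit 15), (nat_lit 221, cR_s2, nat_lit 15), (nat_lit 30, cR_s0, nat_lit 15), (nat_lit 10, cR_s3, nat_lit 245), (nat_lit 46, cR_s1, nat_lit 245), (nat_lit 270, cR_s0, nat_lit 245), (nat_lit 47, cR_s1, nat_lit 175), (nat_lit 225, cR_s0, nat_lit 175), (nat_lit 277, cR_s3, nat_lit 312), (nat_lit 190, cR_s2, nat_lit 312), (nat_lit 91, cR_s0, nat_lit 53), (nat_lit 295, cR_s1, nat_lit 326), (nat_lit 284, cR_s0, nat_lit 326), (nat_lit 34, cR_s1, nat_lit 189), (nat_lit 258, cR_s0, nat_lit 189), (nat_lit 330, cR_s3, nat_lit 256), (nat_lit 309, cR_s2, nat_lit 256), (nat_lit 263, cR_s1, nat_lit 256), (nat_lit 18, cR_s0, nat_lit 256), (nat_lit 313, cR_s3, nat_lit 272), (nat_lit 271, cR_s2, nat_lit 272), (nat_lit 264, cR_s3, nat_lit 202),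 (nat_lit 303, cR_s1, nat_lit 202), (nat_lit 130, cR_s0, nat_lit 202), (nat_lit 211, cR_s0, nat_lit 204), (nat_lit 89, cR_s2, nat_lit 50), (nat_lit 85, cR_s0, nat_lit 50), (nat_lit 44, cR_s1, nat_lit 42), (nat_lit 76, cR_s0, nat_lit 42), (nat_lit 99, cR_s2, nat_lit 103), (nat_lit 296, cR_s1, nat_lit 103), (nat_lit 170, cR_s0, nat_lit 103), (nat_lit 307, cR_s1, nat_lit 148), (nat_lit 220, cR_s0, nat_lit 148), (nat_lit 113, cR_s3, nat_lit 135), (nat_lit 127, cR_s2, nat_lit 135), (nat_lit 145, cR_s1, nat_lit 135), (nat_lit 37, cR_s0, nat_lit 135), (nat_lit 162, cR_s3, nat_lit 261), (nat_lit 288, cR_s2, nat_lit 261), (nat_lit 19, cR_s1, nat_lit 261), (nat_lit 98, cR_s0, nat_lit 261), (nat_lit 78, cR_s2, nat_lit 43), (nat_lit 77, cR_s0, nat_lit 43), (nat_lit 49, cR_s2, nat_lit 156), (nat_lit 228, cR_s0, nat_lit 156), (nat_lit 185, cR_s1, nat_lit 192), (nat_lit 217, cR_s0, nat_lit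 192), (nat_lit 320, cR_s2, nat_lit 26), (nat_lit 171, cR_s2, nat_lit 178), (nat_lit 180, cR_s1, nat_lit 178), (nat_lit 143, cR_s0, nat_lit 178), (nat_lit 129, cR_s2, nat_lit 51), (nat_lit 291, cR_s1, nat_lit 51), (nat_lit 87, cR_s0, nat_lit 51), (nat_lit 328, cR_s1, nat_lit 120), (nat_lit 52, cR_s0, nat_lit 120), (nat_lit 68, cR_s0, nat_lit 45), (nat_lit 300, cR_s2, nat_lit 60), (nat_lit 332, cR_s1, nat_lit 60), (nat_lit 102, cR_s0, nat_lit 60), (nat_lit 128, cR_s1, nat_lit 86), (nat_lit 287, cR_s2, nat_lit 281), (nat_lit 229, cR_s3, nat_lit 208), (nat_lit 209, cR_s2, nat_lit 208), (nat_lit 293, cR_s1, nat_lit 208), (nat_lit 269, cR_s0, nat_lit 208), (nat_lit 172, cR_s1, nat_lit 25), (nat_lit 4, cR_s2, nat_lit 20), (nat_lit 93, cR_s1, nat_lit 20), (nat_lit 40, cR_s0, nat_lit 20), (nat_lit 17, cR_s2, nat_lit 161), (nat_lit 234, cR_s0, nat_lit 161), (nat_lit 224, cR_s1, nat_lit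 8), (nat_lit 188, cR_s2, nat_lit 63), (nat_lit 107, cR_s0, nat_lit 63), (nat_lit 67, cR_s1, nat_lit 27), (nat_lit 57, cR_s2, nat_lit 304), (nat_lit 255, cR_s1, nat_lit 304), (nat_lit 331, cR_s0, nat_lit 304), (nat_lit 54, cR_s1, nat_lit 137), (nat_lit 112, cR_s0, nat_lit 137), (nat_lit 254, cR_s3, nat_lit 289), (nat_lit 13, cR_s2, nat_lit 289), (nat_lit 23, cR_s1, nat_lit 289), (nat_lit 12, cR_s3, nat_lit 333), (nat_lit 298, cR_s2, nat_lit 333), (nat_lit 56, cR_s1, nat_lit 333), (nat_lit 334, cR_s0, nat_lit 333), (nat_lit 240, cR_s3, nat_lit 9), (nat_lit 124, cR_s2, nat_lit 9), (nat_lit 268, cR_s1, nat_lit 9), (nat_lit 317, cR_s3, nat_lit 231), (nat_lit 310, cR_s2, nat_lit 231), (nat_lit 151, cR_s1, nat_lit 231), (nat_lit 200, cR_s0, nat_lit 142), (nat_lit 11, cR_s2, nat_lit 122), (nat_lit 232, cR_s0, nat_lit 212), (nat_lit 179, cR_s2, nat_lit 193), (nat_lit 121, cR_s1, nat_lit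 193), (nat_lit 262, cR_s0, nat_lit 193), (nat_lit 168, cR_s1, nat_lit 221), (nat_lit 280, cR_s0, nat_lit 221), (nat_lit 315, cR_s1, nat_lit 270), (nat_lit 285, cR_s0, nat_lit 270), (nat_lit 58, cR_s2, nat_lit 47), (nat_lit 29, cR_s0, nat_lit 47), (nat_lit 174, cR_s2, nat_lit 225), (nat_lit 257, cR_s1, nat_lit 225), (nat_lit 191, cR_s2, nat_lit 277), (nat_lit 169, cR_s1, nat_lit 190), (nat_lit 70, cR_s0, nat_lit 190), (nat_lit 150, cR_s0, nat_lit 91), (nat_lit 238, cR_s3, nat_lit 295), (nat_lit 308, cR_s2, nat_lit 295), (nat_lit 201, cR_s1, nat_lit 295), (nat_lit 195, cR_s0, nat_lit 295), (nat_lit 114, cR_s3, nat_lit 284), (nat_lit 335, cR_s2, nat_lit 284), (nat_lit 282, cR_s1, nat_lit 284), (nat_lit 279, cR_s0, nat_lit 284), (nat_lit 203, cR_s2, nat_lit 34), (nat_lit 61, cR_s0, nat_lit 34), (nat_lit 147, cR_s3, nat_lit 258), (nat_lit 276, cR_s2, nat_lit 258), (nat_lit 41, cR_s1,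 nat_lit 258), (nat_lit 181, cR_s0, nat_lit 330), (nat_lit 247, cR_s1, nat_lit 309), (nat_lit 273, cR_s0, nat_lit 309), (nat_lit 187, cR_s2, nat_lit 263), (nat_lit 36, cR_s2, nat_lit 18), (nat_lit 72, cR_s1, nat_lit 313), (nat_lit 325, cR_s0, nat_lit 313), (nat_lit 311, cR_s0, nat_lit 271), (nat_lit 327, cR_s3, nat_lit 211), (nat_lit 194, cR_s2, nat_lit 211), (nat_lit 236, cR_s1, nat_lit 211), (nat_lit 139, cR_s0, nat_lit 211), (nat_lit 218, cR_s1, nat_lit 89), (nat_lit 173, cR_s2, nat_lit 85), (nat_lit 214, cR_s1, nat_lit 85), (nat_lit 83, cR_s2, nat_lit 76), (nat_lit 32, cR_s1, nat_lit 76), (nat_lit 125, cR_s0, nat_lit 76), (nat_lit 163, cR_s0, nat_lit 99), (nat_lit 248, cR_s0, nat_lit 296), (nat_lit 62, cR_s1, nat_lit 170), (nat_lit 244, cR_s0, nat_lit 170), (nat_lit 146, cR_s2, nat_lit 307), (nat_lit 205, cR_s2, nat_lit 220), (nat_lit 275, cR_s0, nat_lit 220), (nat_lit 198,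 cR_s0, nat_lit 127), (nat_lit 197, cR_s2, nat_lit 145), (nat_lit 243, cR_s1, nat_lit 37), (nat_lit 297, cR_s2, nat_lit 162), (nat_lit 177, cR_s1, nat_lit 162), (nat_lit 79, cR_s0, nat_lit 162), (nat_lit 219, cR_s2, nat_lit 19), (nat_lit 38, cR_s0, nat_lit 19), (nat_lit 233, cR_s1, nat_lit 98), (nat_lit 155, cR_s0, nat_lit 98), (nat_lit 117, cR_s1, nat_lit 78), (nat_lit 64, cR_s1, nat_lit 49), (nat_lit 84, cR_s0, nat_lit 49), (nat_lit 184, cR_s3, nat_lit 228), (nat_lit 31, cR_s2, nat_lit 228), (nat_lit 167, cR_s1, nat_lit 228), (nat_lit 196, cR_s0, nat_lit 228), (nat_lit 278, cR_s0, nat_lit 217), (nat_lit 69, cR_s1, nat_lit 320), (nat_lit 80, cR_s1, nat_lit 171), (nat_lit 305, cR_s2, nat_lit 180), (nat_lit 302, cR_s1, nat_lit 180), (nat_lit 141, cR_s3, nat_lit 143), (nat_lit 252, cR_s1, nat_lit 143), (nat_lit 215, cR_s0, nat_lit 143), (nat_lit 241, cR_s1, nat_lit 129), (nat_lit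 249, cR_s2, nat_lit 291), (nat_lit 144, cR_s0, nat_lit 87), (nat_lit 133, cR_s3, nat_lit 328), (nat_lit 16, cR_s1, nat_lit 328), (nat_lit 164, cR_s0, nat_lit 328), (nat_lit 322, cR_s0, nat_lit 300), (nat_lit 71, cR_s1, nat_lit 102), (nat_lit 227, cR_s1, nat_lit 128), (nat_lit 318, cR_s0, nat_lit 293), (nat_lit 267, cR_s3, nat_lit 269), (nat_lit 250, cR_s0, nat_lit 269), (nat_lit 299, cR_s3, nat_lit 93), (nat_lit 154, cR_s0, nat_lit 93), (nat_lit 14, cR_s3, nat_lit 40), (nat_lit 73, cR_s0, nat_lit 40), (nat_lit 207, cR_s3, nat_lit 234), (nat_lit 216, cR_s2, nat_lit 234), (nat_lit 186, cR_s1, nat_lit 188), (nat_lit 242, cR_s0, nat_lit 188), (nat_lit 108, cR_s1, nat_lit 107), (nat_lit 166, cR_s3, nat_lit 67), (nat_lit 65, cR_s1, nat_lit 67), (nat_lit 324, cR_s3, nat_lit 255), (nat_lit 105, cR_s2, nat_lit 255), (nat_lit 253, cR_s1, nat_lit 255), (nat_lit 283, cR_s1, nat_lit 331),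 (nat_lit 110, cR_s3, nat_lit 54), (nat_lit 92, cR_s0, nat_lit 54), (nat_lit 123, cR_s3, nat_lit 112), (nat_lit 74, cR_s2, nat_lit 112), (nat_lit 260, cR_s1, nat_lit 112), (nat_lit 126, cR_s0, nat_lit 112), (nat_lit 88, cR_s2, nat_lit 23), (nat_lit 24, cR_s0, nat_lit 12), (nat_lit 159, cR_s1, nat_lit 298), (nat_lit 96, cR_s0, nat_lit 56), (nat_lit 111, cR_s2, nat_lit 240), (nat_lit 115, cR_s1, nat_lit 317), (nat_lit 329, cR_s0, nat_lit 317), (nat_lit 106, cR_s3, nat_lit 151), (nat_lit 259, cR_s1, nat_lit 151), (nat_lit 223, cR_s0, nat_lit 151), (nat_lit 239, cR_s1, nat_lit 11), (nat_lit 90, cR_s1, nat_lit 262), (nat_lit 152, cR_s3, nat_lit 280), (nat_lit 237, cR_s3, nat_lit 285), (nat_lit 251, cR_s0, nat_lit 174), (nat_lit 290, cR_s3, nat_lit 257), (nat_lit 235, cR_s0, nat_lit 257), (nat_lit 160, cR_s1, nat_lit 191), (nat_lit 206, cR_s2, nat_lit 238), (nat_lit 100, cR_s1, nat_lit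 308), (nat_lit 265, cR_s0, nat_lit 195), (nat_lit 183, cR_s0, nat_lit 114), (nat_lit 323, cR_s0, nat_lit 282), (nat_lit 2, cR_s0, nat_lit 61), (nat_lit 266, cR_s3, nat_lit 41), (nat_lit 101, cR_s2, nat_lit 181), (nat_lit 213, cR_s1, nat_lit 247), (nat_lit 274, cR_s3, nat_lit 273), (nat_lit 286, cR_s1, nat_lit 83), (nat_lit 39, cR_s1, nat_lit 32), (nat_lit 182, cR_s0, nat_lit 125), (nat_lit 165, cR_s2, nat_lit 163), (nat_lit 132, cR_s0, nat_lit 163), (nat_lit 294, cR_s1, nat_lit 205), (nat_lit 314, cR_s0, nat_lit 275), (nat_lit 6, cR_s1, nat_lit 233), (nat_lit 199, cR_s0, nat_lit 155), (nat_lit 176, cR_s0, nat_lit 184), (nat_lit 316, cR_s3, nat_lit 80), (nat_lit 153, cR_s0, nat_lit 252), (nat_lit 246, cR_s3, nat_lit 241), (nat_lit 59, cR_s1, nat_lit 144), (nat_lit 116, cR_s2, nat_lit 71), (nat_lit 28, cR_s0, nat_lit 14), (nat_lit 75, cR_s3, nat_lit 186), (nat_lit 226, cR_s1,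 nat_lit 96), (nat_lit 149, cR_s2, nat_lit 223), (nat_lit 5, cR_s1, nat_lit 265), (nat_lit 22, cR_s0, nat_lit 183)]
noncomputable def cR_lev1 : Cfsg.Agent.Lib.PermComp.Core.Lev := Cfsg.Agent.Lib.PermComp.Core.mkLev cR_n cR_w cR_mask cR_L cR_maskL cR_idc (nat_lit 1) [cR_s3, cR_s2, cR_s1] [(nat_lit 95, cR_s1, nat_lit 1), (nat_lit 82, cR_s3, nat_lit 95), (nat_lit 138, cR_s2, nat_lit 95), (nat_lit 104, cR_s1, nat_lit 95), (nat_lit 55, cR_s2, nat_lit 82), (nat_lit 109, cR_s1, nat_lit 138), (nat_lit 131, cR_s2, nat_lit 104), (nat_lit 245, cR_s1, nat_lit 55), (nat_lit 53, cR_s3, nat_lit 109), (nat_lit 292, cR_s1, nat_lit 109), (nat_lit 202, cR_s1, nat_lit 131), (nat_lit 10, cR_s3, nat_lit 245), (nat_lit 46, cR_s1, nat_lit 245), (nat_lit 264, cR_s3, nat_lit 202), (nat_lit 303, cR_s1, nat_lit 202)]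
noncomputable def cR_lev2 : Cfsg.Agent.Lib.PermComp.Core.Lev := Cfsg.Agent.Lib.PermComp.Core.mkLev cR_n cR_w cR_mask cR_L cR_maskL cR_idc (nat_lit 2) [cR_s3, cR_s2] [(nat_lit 253, cR_s2, nat_lit 2)]
noncomputable def cR_lev3 : Cfsg.Agent.Lib.PermComp.Core.Lev := Cfsg.Agent.Lib.PermComp.Core.mkLev cR_n cR_w cR_mask cR_L cR_maskL cR_idc (nat_lit 3) [cR_s3] [(nat_lit 66, cR_s3, nat_lit 3)]
noncomputable def cR_levels : List Cfsg.Agent.Lib.PermComp.Core.Lev := [cR_lev0, cR_lev1, cR_lev2, cR_lev3]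

def cM_n : Nat := nat_lit 24
def cM_w : Nat := nat_lit 9
def cM_mask : Nat := nat_lit 511
def cM_L : Nat := nat_lit 216
def cM_maskL : Nat := nat_lit 0xffffffffffffffffffffffffffffffffffffffffffffffffffffff
def cM_idc : Nat := nat_lit 0xb8582a14098482210078381a0c058281208038180a04018080200
def cM_T : List Nat := [nat_lit 0xb8342a0e0983c28020383020120480c0c0b088141401040100016, nat_lit 0x281211070480e080784c2c1401810160d060400c050b8540401]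
def cM_prog : List (Nat × Nat × Nat) := [(nat_lit 1, nat_lit 1, nat_lit 0), (nat_lit 1, nat_lit 1, nat_lit 0), (nat_lit 0, nat_lit 3, nat_lit 2), (nat_lit 0, nat_lit 0, nat_lit 4), (nat_lit 0, nat_lit 0, nat_lit 4), (nat_lit 0, nat_lit 0, nat_lit 5), (nat_lit 0, nat_lit 5, nat_lit 4), (nat_lit 0, nat_lit 0, nat_lit 1), (nat_lit 0, nat_lit 8, nat_lit 9), (nat_lit 0, nat_lit 0, nat_lit 10), (nat_lit 0, nat_lit 0, nat_lit 10), (nat_lit 0, nat_lit 0, nat_lit 12), (nat_lit 0, nat_lit 0, nat_lit 12), (nat_lit 0, nat_lit 0, nat_lit 13), (nat_lit 0, nat_lit 0, nat_lit 15), (nat_lit 0, nat_lit 0, nat_lit 15), (nat_lit 0, nat_lit 0, nat_lit 16), (nat_lit 0, nat_lit 10, nat_lit 15), (nat_lit 0, nat_lit 0, nat_lit 1), (nat_lit 0, nat_lit 18, nat_lit 18), (nat_lit 0, nat_lit 0, nat_lit 19), (nat_lit 0, nat_lit 22, nat_lit 22), (nat_lit 0, nat_lit 0, nat_lit 22), (nat_lit 0, nat_lit 0, nat_lit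 24), (nat_lit 0, nat_lit 0, nat_lit 25), (nat_lit 0, nat_lit 0, nat_lit 25), (nat_lit 0, nat_lit 0, nat_lit 26), (nat_lit 0, nat_lit 0, nat_lit 28), (nat_lit 0, nat_lit 0, nat_lit 28), (nat_lit 0, nat_lit 0, nat_lit 30), (nat_lit 0, nat_lit 9, nat_lit 0), (nat_lit 1, nat_lit 23, nat_lit 0), (nat_lit 1, nat_lit 1, nat_lit 0), (nat_lit 1, nat_lit 14, nat_lit 0), (nat_lit 0, nat_lit 3, nat_lit 15), (nat_lit 0, nat_lit 0, nat_lit 16), (nat_lit 0, nat_lit 0, nat_lit 28), (nat_lit 0, nat_lit 0, nat_lit 18), (nat_lit 0, nat_lit 0, nat_lit 7), (nat_lit 0, nat_lit 0, nat_lit 8), (nat_lit 0, nat_lit 8, nat_lit 6), (nat_lit 0, nat_lit 0, nat_lit 1), (nat_lit 0, nat_lit 34, nat_lit 11), (nat_lit 0, nat_lit 0, nat_lit 12), (nat_lit 0, nat_lit 0, nat_lit 25), (nat_lit 0, nat_lit 0, nat_lit 37), (nat_lit 0, nat_lit 0, nat_lit 15), (nat_lit 0, nat_lit 15, nat_lit 15), (nat_lit 0, nat_lit 0,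 nat_lit 16), (nat_lit 0, nat_lit 0, nat_lit 16), (nat_lit 0, nat_lit 0, nat_lit 3), (nat_lit 1, nat_lit 9, nat_lit 0), (nat_lit 1, nat_lit 1, nat_lit 0), (nat_lit 0, nat_lit 2, nat_lit 2), (nat_lit 0, nat_lit 0, nat_lit 12), (nat_lit 0, nat_lit 0, nat_lit 4), (nat_lit 0, nat_lit 0, nat_lit 5), (nat_lit 0, nat_lit 0, nat_lit 6), (nat_lit 0, nat_lit 0, nat_lit 7), (nat_lit 0, nat_lit 0, nat_lit 17), (nat_lit 0, nat_lit 0, nat_lit 9), (nat_lit 0, nat_lit 0, nat_lit 19), (nat_lit 0, nat_lit 0, nat_lit 11), (nat_lit 0, nat_lit 0, nat_lit 12), (nat_lit 0, nat_lit 11, nat_lit 12), (nat_lit 0, nat_lit 0, nat_lit 12), (nat_lit 0, nat_lit 0, nat_lit 2), (nat_lit 0, nat_lit 25, nat_lit 16), (nat_lit 0, nat_lit 0, nat_lit 26), (nat_lit 0, nat_lit 0, nat_lit 18), (nat_lit 0, nat_lit 0, nat_lit 28), (nat_lit 0, nat_lit 0, nat_lit 29), (nat_lit 0, nat_lit 0, nat_lit 21), (nat_lit 0, nat_lit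 0, nat_lit 22), (nat_lit 0, nat_lit 0, nat_lit 23), (nat_lit 0, nat_lit 22, nat_lit 22), (nat_lit 0, nat_lit 0, nat_lit 24), (nat_lit 0, nat_lit 0, nat_lit 2), (nat_lit 0, nat_lit 24, nat_lit 27), (nat_lit 0, nat_lit 0, nat_lit 37), (nat_lit 0, nat_lit 0, nat_lit 29), (nat_lit 0, nat_lit 0, nat_lit 39), (nat_lit 0, nat_lit 0, nat_lit 40), (nat_lit 0, nat_lit 0, nat_lit 32), (nat_lit 0, nat_lit 0, nat_lit 42), (nat_lit 0, nat_lit 33, nat_lit 32), (nat_lit 0, nat_lit 0, nat_lit 33), (nat_lit 0, nat_lit 0, nat_lit 2)]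
def cM_s0 : Nat := nat_lit 0xb8342a0e0983c28020383020120480c0c0b088141401040100016
def cM_s1 : Nat := nat_lit 0xb8142a110781c240b0604c140e0b00412030a0342002040100c00
def cM_s2 : Nat := nat_lit 0x185c040f0903026080701c0c110581012100a0542c0a028340200
def cM_s3 : Nat := nat_lit 0x28581a12078501c08098442a07058101210060182e0a018080200
def cM_s4 : Nat := nat_lit 0x205810130a03c180d0901c2011058141215070181417018080200
def cM_s5 : Nat := nat_lit 0x40580807070301e050884c14120583412170a0182015018080200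
noncomputable def cM_lev0 : Cfsg.Agent.Lib.PermComp.Core.Lev := Cfsg.Agent.Lib.PermComp.Core.mkLev cM_n cM_w cM_mask cM_L cM_maskL cM_idc (nat_lit 0) [cM_s3, cM_s4, cM_s5, cM_s2, cM_s1, cM_s0] [(nat_lit 22, cM_s0, nat_lit 0), (nat_lit 23, cM_s2, nat_lit 22), (nat_lit 5, cM_s1, nat_lit 22), (nat_lit 13, cM_s0, nat_lit 22), (nat_lit 4, cM_s4, nat_lit 23), (nat_lit 8, cM_s5, nat_lit 23), (nat_lit 3, cM_s2, nat_lit 23), (nat_lit 10, cM_s4, nat_lit 5), (nat_lit 16, cM_s5, nat_lit 5), (nat_lit 21, cM_s3, nat_lit 13), (nat_lit 6, cM_s2, nat_lit 13), (nat_lit 2, cM_s1, nat_lit 4), (nat_lit 1, cM_s0, nat_lit 4), (nat_lit 11, cM_s0, nat_lit 8), (nat_lit 9, cM_s0, nat_lit 11)]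
noncomputable def cM_lev1 : Cfsg.Agent.Lib.PermComp.Core.Lev := Cfsg.Agent.Lib.PermComp.Core.mkLev cM_n cM_w cM_mask cM_L cM_maskL cM_idc (nat_lit 1) [cM_s3, cM_s4, cM_s5, cM_s2, cM_s1] [(nat_lit 6, cM_s1, nat_lit 1), (nat_lit 21, cM_s2, nat_lit 6), (nat_lit 13, cM_s1, nat_lit 6), (nat_lit 8, cM_s4, nat_lit 21), (nat_lit 4, cM_s5, nat_lit 21), (nat_lit 2, cM_s2, nat_lit 21), (nat_lit 16, cM_s4, nat_lit 13), (nat_lit 10, cM_s5, nat_lit 13), (nat_lit 23, cM_s5, nat_lit 8), (nat_lit 3, cM_s1, nat_lit 8), (nat_lit 5, cM_s5, nat_lit 16), (nat_lit 11, cM_s1, nat_lit 16), (nat_lit 22, cM_s2, nat_lit 5)]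
noncomputable def cM_lev2 : Cfsg.Agent.Lib.PermComp.Core.Lev := Cfsg.Agent.Lib.PermComp.Core.mkLev cM_n cM_w cM_mask cM_L cM_maskL cM_idc (nat_lit 2) [cM_s3, cM_s4, cM_s5, cM_s2] [(nat_lit 13, cM_s2, nat_lit 2), (nat_lit 21, cM_s3, nat_lit 13), (nat_lit 16, cM_s4, nat_lit 13), (nat_lit 10, cM_s5, nat_lit 13), (nat_lit 6, cM_s2, nat_lit 13), (nat_lit 8, cM_s4, nat_lit 21), (nat_lit 4, cM_s5, nat_lit 21), (nat_lit 5, cM_s5, nat_lit 16), (nat_lit 23, cM_s5, nat_lit 8), (nat_lit 22, cM_s2, nat_lit 5), (nat_lit 3, cM_s2, nat_lit 23)]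
noncomputable def cM_lev3 : Cfsg.Agent.Lib.PermComp.Core.Lev := Cfsg.Agent.Lib.PermComp.Core.mkLev cM_n cM_w cM_mask cM_L cM_maskL cM_idc (nat_lit 4) [cM_s3, cM_s4, cM_s5] [(nat_lit 10, cM_s3, nat_lit 4), (nat_lit 23, cM_s4, nat_lit 4), (nat_lit 21, cM_s5, nat_lit 4), (nat_lit 5, cM_s4, nat_lit 10), (nat_lit 13, cM_s5, nat_lit 10), (nat_lit 8, cM_s5, nat_lit 23), (nat_lit 16, cM_s5, nat_lit 5)]
noncomputable def cM_levels : List Cfsg.Agent.Lib.PermComp.Core.Lev := [cM_lev0, cM_lev1, cM_lev2, cM_lev3]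

def cD_n : Nat := nat_lit 360
def cD_w : Nat := nat_lit 9
def cD_mask : Nat := nat_lit 511
def cD_L : Nat := nat_lit 3240
def cD_maskL : Nat := nat_lit 0xffffffffffffffffffffffffffffffffffffffffffffffffffffffffffffffffffffffffffffffffffffffffffffffffffffffffffffffffffffffffffffffffffffffffffffffffffffffffffffffffffffffffffffffffffffffffffffffffffffffffffffffffffffffffffffffffffffffffffffffffffffffffffffffffffffffffffffffffffffffffffffffffffffffffffffffffffffffffffffffffffffffffffffffffffffffffffffffffffffffffffffffffffffffffffffffffffffffffffffffffffffffffffffffffffffffffffffffffffffffffffffffffffffffffffffffffffffffffffffffffffffffffffffffffffffffffffffffffffffffffffffffffffffffffffffffffffffffffffffffffffffffffffffffffffffffffffffffffffffffffffffffffffffffffffffffffffffffffffffffffffffffffffffffffffffffffffffffffffffffffffffffffffffffffffffffffffffffffffffffffffffffffffffffffffffffffffffffffffffffffffffffffffffffffffffffffffffffffffffffffffffffffff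
def cD_idc : Nat := nat_lit 0xb3d9acb64b1d8ac360afd7abb5cadd6ab358abd5aab54a9d4aa350a7d3a9b4ca5d2a9348a3d1a8b44a1d0a83409fcfa7b3c9dcea73389bcda6b3499cca633097cba5b2c95caa532893c9a4b2491c8a43208fc7a3b1c8dc6a33188bc5a2b1489c4a231087c3a1b0c85c2a130883c1a0b0481c0a03007fbf9fafc7dbe9f2f87bbd9eaf479bc9e2f077bb9daec75ba9d2e873b99cae471b89c2e06fb79badc6db69b2d86bb59aad469b49a2d067b399acc65b2992c863b198ac461b0982c05faf97abc5dae972b85bad96ab459ac962b057ab95aac55aa952a853a994aa451a8942a04fa793a9c4da6932984ba592a9449a49229047a391a8c45a29128843a190a8441a0902803f9f8fa7c3d9e8f2783b9d8ea74399c8e270379b8da6c359a8d26833998ca6431988c2602f978ba5c2d968b2582b958aa5429948a250279389a4c259289248239188a442190882401f8f87a3c1d8e872381b8d86a34198c86230178b85a2c158a85228138984a241188842200f8783a1c0d86832180b8582a14098482210078381a0c058281208038180a04018080200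
def cD_T : List Nat := [nat_lit 0xb3d76cb5eb1d7ec952abd72c162acd4ead5bb0d56b551ac552a1666b53e9cd1862d67ea41c472566a9752a9b1a96d3293486c1628a6776422222ea3d05e14b5ea3661429151170f8619be7d4653bce66e50d92ddd179350e3f045a3f8327b9d50206239bc75f53d1ccca78799ccecc43b94ce1d6124bcda6a992d4d176ab988fa1d2f612fa592a6eca24f259248e431590414bac44f47a00878dc6631130fa522c298a42a24e845c421f0d3404014d354a08e4932fa16160e84c1e0cd95711a04f2653d8eab00b334cb017fa3df8fd70bedf2f77abd15acf293c5deed4213dd40674b9dcce463b8dc4e06fb78a0dc6db6944a06bb21aad448b48e06112b4080ce6632d9204633156cbf2430580340a2c978ba5cadd007e59ac55e2b29ab04e42552a14ca551a6d429f4ea7134984b254ee92482251c8c452210c7c41a04fe7d371e8f0763a1cce2171b084da6c359a404663218cac602f170b6592b954a8000e944884e2693094492391486411f8f4783a190c05a371a8cc622f060b054281309044200f0703418040542611078341609038140601, nat_lit 0xa856ab361af58aaf58afd8ecd64a9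d52b75dae582ad55b3d96a551a5d3cc14e9c368c70d892b2551858bb64928962288e359ad3687067ed1a983c83d01eb1698c85f24546529a11ba4d227b479e3d08345664968876253923d4259c0521412a9ea053f9a49e5f3e91af26d146fcee75398ca066f204c299d296883a98d339942d47304ecba5b2b6e4a5ff262b8b2447826a7cb81360c7e3b1c84c68e60d7345daa9a8ac4db6e788b8a1f0e35a21e2c950c3172922f1b4b70a7bc2181056f4120609693bce8af0a868c88e803f9c0837dbf1f4f87b33838f328bc9e0ee76125d6e36bba196e55d150b2e11d0a9a8dd1b9f550d96c295ac430c34c0ed1123147ecf6687994c863add2ac461b08cc335faf97abb4e2e16cb55a2c960ae56a18d8ab552a54e03520a144a04f1c536994b9fd28934883d1e8d45a250e8542209007e3e1ecf2773a9a4e47037880dc4c009a8d06732888c4612f9747a5a2c1580a4e29948a04f088989600241188842200f8163b188bc72381b0d06430170b456291389446210f87436190b858281208038180a040180802]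
def cD_prog : List (Nat × Nat × Nat) := [(nat_lit 1, nat_lit 1, nat_lit 0), (nat_lit 1, nat_lit 1, nat_lit 0), (nat_lit 0, nat_lit 3, nat_lit 2), (nat_lit 0, nat_lit 0, nat_lit 4), (nat_lit 0, nat_lit 0, nat_lit 4), (nat_lit 0, nat_lit 3, nat_lit 3), (nat_lit 0, nat_lit 6, nat_lit 7), (nat_lit 0, nat_lit 0, nat_lit 8), (nat_lit 0, nat_lit 0, nat_lit 8), (nat_lit 0, nat_lit 0, nat_lit 10), (nat_lit 0, nat_lit 0, nat_lit 10), (nat_lit 0, nat_lit 0, nat_lit 11), (nat_lit 0, nat_lit 0, nat_lit 13), (nat_lit 0, nat_lit 0, nat_lit 13), (nat_lit 0, nat_lit 0, nat_lit 14), (nat_lit 0, nat_lit 14, nat_lit 14), (nat_lit 0, nat_lit 0, nat_lit 15), (nat_lit 0, nat_lit 0, nat_lit 15), (nat_lit 0, nat_lit 0, nat_lit 17), (nat_lit 0, nat_lit 0, nat_lit 18), (nat_lit 0, nat_lit 0, nat_lit 19), (nat_lit 0, nat_lit 0, nat_lit 20), (nat_lit 0, nat_lit 0, nat_lit 20), (nat_lit 0, nat_lit 0, nat_lit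 22), (nat_lit 0, nat_lit 0, nat_lit 9), (nat_lit 0, nat_lit 26, nat_lit 26), (nat_lit 0, nat_lit 0, nat_lit 26), (nat_lit 0, nat_lit 0, nat_lit 28), (nat_lit 0, nat_lit 0, nat_lit 29), (nat_lit 0, nat_lit 0, nat_lit 29), (nat_lit 0, nat_lit 0, nat_lit 30), (nat_lit 0, nat_lit 0, nat_lit 32), (nat_lit 0, nat_lit 0, nat_lit 32), (nat_lit 0, nat_lit 0, nat_lit 34), (nat_lit 0, nat_lit 33, nat_lit 32), (nat_lit 0, nat_lit 0, nat_lit 34), (nat_lit 0, nat_lit 0, nat_lit 35), (nat_lit 0, nat_lit 0, nat_lit 35), (nat_lit 0, nat_lit 0, nat_lit 36), (nat_lit 0, nat_lit 0, nat_lit 38), (nat_lit 0, nat_lit 0, nat_lit 38), (nat_lit 0, nat_lit 0, nat_lit 39), (nat_lit 0, nat_lit 0, nat_lit 40), (nat_lit 0, nat_lit 0, nat_lit 9), (nat_lit 0, nat_lit 39, nat_lit 45), (nat_lit 0, nat_lit 0, nat_lit 46), (nat_lit 0, nat_lit 0, nat_lit 46), (nat_lit 0, nat_lit 0, nat_lit 48), (nat_lit 0, nat_lit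 0, nat_lit 48), (nat_lit 0, nat_lit 0, nat_lit 49), (nat_lit 0, nat_lit 0, nat_lit 51), (nat_lit 0, nat_lit 45, nat_lit 49), (nat_lit 0, nat_lit 0, nat_lit 51), (nat_lit 0, nat_lit 0, nat_lit 52), (nat_lit 0, nat_lit 0, nat_lit 52), (nat_lit 0, nat_lit 0, nat_lit 53), (nat_lit 0, nat_lit 0, nat_lit 55), (nat_lit 0, nat_lit 0, nat_lit 6), (nat_lit 1, nat_lit 33, nat_lit 0), (nat_lit 1, nat_lit 1, nat_lit 0), (nat_lit 0, nat_lit 16, nat_lit 2), (nat_lit 0, nat_lit 0, nat_lit 17), (nat_lit 0, nat_lit 0, nat_lit 4), (nat_lit 0, nat_lit 0, nat_lit 19), (nat_lit 0, nat_lit 0, nat_lit 6), (nat_lit 0, nat_lit 0, nat_lit 40), (nat_lit 0, nat_lit 0, nat_lit 22), (nat_lit 0, nat_lit 7, nat_lit 0), (nat_lit 0, nat_lit 43, nat_lit 24), (nat_lit 0, nat_lit 0, nat_lit 11), (nat_lit 0, nat_lit 0, nat_lit 45), (nat_lit 0, nat_lit 0, nat_lit 27), (nat_lit 0, nat_lit 0, nat_lit 14), (nat_lit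 0, nat_lit 0, nat_lit 15), (nat_lit 0, nat_lit 0, nat_lit 16), (nat_lit 0, nat_lit 0, nat_lit 17), (nat_lit 0, nat_lit 0, nat_lit 32), (nat_lit 0, nat_lit 18, nat_lit 17), (nat_lit 0, nat_lit 0, nat_lit 18), (nat_lit 0, nat_lit 0, nat_lit 2), (nat_lit 1, nat_lit 12, nat_lit 0), (nat_lit 0, nat_lit 13, nat_lit 13), (nat_lit 0, nat_lit 0, nat_lit 14), (nat_lit 0, nat_lit 0, nat_lit 15), (nat_lit 0, nat_lit 0, nat_lit 16), (nat_lit 0, nat_lit 0, nat_lit 5), (nat_lit 0, nat_lit 5, nat_lit 0)]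
def cD_s0 : Nat := nat_lit 0xb3d76cb5eb1d7ec952abd72c162acd4ead5bb0d56b551ac552a1666b53e9cd1862d67ea41c472566a9752a9b1a96d3293486c1628a6776422222ea3d05e14b5ea3661429151170f8619be7d4653bce66e50d92ddd179350e3f045a3f8327b9d50206239bc75f53d1ccca78799ccecc43b94ce1d6124bcda6a992d4d176ab988fa1d2f612fa592a6eca24f259248e431590414bac44f47a00878dc6631130fa522c298a42a24e845c421f0d3404014d354a08e4932fa16160e84c1e0cd95711a04f2653d8eab00b334cb017fa3df8fd70bedf2f77abd15acf293c5deed4213dd40674b9dcce463b8dc4e06fb78a0dc6db6944a06bb21aad448b48e06112b4080ce6632d9204633156cbf2430580340a2c978ba5cadd007e59ac55e2b29ab04e42552a14ca551a6d429f4ea7134984b254ee92482251c8c452210c7c41a04fe7d371e8f0763a1cce2171b084da6c359a404663218cac602f170b6592b954a8000e944884e2693094492391486411f8f4783a190c05a371a8cc622f060b054281309044200f0703418040542611078341609038140601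
def cD_s1 : Nat := nat_lit 0xb3562ad62ae57ac950b1d86a757b2d66bb51afd52a55bad582cf55871c470db8dd1874107cc9d773063c8a424599428e6045242491157a515ee648b88e78ff844ac7e305927d0d4e64aad8a0a10b842f2927071f51a6b8458113661893af08c1bde5392dcee166e86a4c0a8377168267b4c8a685077e81e888d383b5a6566a9e05d373296184898934909471233c0c9b4ba1e6ca77c19a03400c17950142bd2654553f9516cd0764018725750964c945acbe9463724c5a8dc83214f2b9502a444ba72a94c24a224d5212e6cad14416178e55a1e280f97c5ca1af14d4f1eac5babf59825112081261ce9a818a27533069a8243b7e5048c7a061b46d3848a71031d6503de2e3a5c403f117dbf9054821068925349470cf0405a7a486b364f41c529411d9ceb5eba632e2340ad88a155345b47c1e201acd88f005bccd279d432200dade3e7e3023c10b8209d8963196c3d474c659655c8b7ac506e4c91854812c578d4662a288b1d0961a009e73401b205a276f9343a74219dd587d472c0645d82b98e4f6609a67d4d77a2a18e0464592ac69f898be00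
def cD_s2 : Nat := nat_lit 0xb3d5acb64af58ab952afd8eb361add4ebb54abd9aa158ad582a3558e51654b1a552d5348083329c9630099121a30c49a92e9cc1276be7a39e012749021683997cf0363c9353544259a4ad92ca7c8381b058c9f5db4f2d3663e98833a57f0289cf9d10f881e48693530a5c42e5dc5e413a64450513534a6c04fc0e21246b938bc5eb374bbbdec6f7933a3aec353622d119b251201f704255ce34a9581ecd09a8234ea39b3d333d612f5a0d16b3b9b946114924b033d97522503234d66768ace1a43f83ac1f0660c0eccb3160aae98ba44384aa80591ca927e1a42d463852ca422da2401c2a317f269ab1879d11bee6864cd8ae547a311a8e1f17e82af3f8c10afa3416c66ac43aa23c096382e1c210cb009a476baa9ee4a780d86a6c163adfe8331ae16ac33398a7f43451098c0c4146c6417203795a4f260dc06c42a0acea530b1c08a9f3a1189220869787a575e22c832c5b0be60a4291b8daa74096538861d4205a6b270aa150102d0a50120f32cf0447208c3afb96d00eeb72c12d3a046d89143476ec8a425c3d028f9324f0184e1428bf40200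
def cD_s3 : Nat := nat_lit 0xadd52a35fb0d5ec753b2572a15eb3d4aab56b1562b366b056acb5d5524418db9ac01b48569b498aff5bd080e083bba1ce5087cea21157a35296ce640699b3097b107e402e972401277319762e91c05fd293a9d1da725b0449a98113a6710c4d44625399d96e1714868a52aca64b2d45044924e454aa2485fafc7dbe9f2803fbc4153775bbdec097949e3aec79b3e2d3e9e99da0b871b7dc2e07137966b4a652542d66ab61af36a3d1920e5754d262bd834220f332549a8b2e5a8401e1e5f2fd981b9292d58e4a1c6d86dc6e85026160aab95ab90253d409f2210c823e1ec15b2a954225108606c4ce718351a612638140e9cd146a311e8e1c0dd3c9d38a729084419e4f0f87b9208e6f3805d04819f88e3f1e4cc710e7b3e0d86a6c35a5d2c687307cc8654a188321829146572a870ec740b1e158aa542997cbd3c2793a324c5d31c927e3e9188aa75300d4b2c96a9146572d164728b451b8da20108bc6031194905a2c158aa140e1389848253b45c6634333003a1c5e4c8c2603d2c15eb258ca234c2608a1374d2c3d5e140a08180aab210080200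
noncomputable def cD_lev0 : Cfsg.Agent.Lib.PermComp.Core.Lev := Cfsg.Agent.Lib.PermComp.Core.mkLev cD_n cD_w cD_mask cD_L cD_maskL cD_idc (nat_lit 0) [cD_s3, cD_s2, cD_s1, cD_s0] [(nat_lit 1, cD_s0, nat_lit 0), (nat_lit 95, cD_s1, nat_lit 1), (nat_lit 3, cD_s0, nat_lit 1), (nat_lit 82, cD_s3, nat_lit 95), (nat_lit 138, cD_s2, nat_lit 95), (nat_lit 104, cD_s1, nat_lit 95), (nat_lit 157, cD_s0, nat_lit 95), (nat_lit 66, cD_s3, nat_lit 3), (nat_lit 81, cD_s2, nat_lit 3), (nat_lit 319, cD_s1, nat_lit 3), (nat_lit 7, cD_s0, nat_lit 3), (nat_lit 55, cD_s2, nat_lit 82), (nat_lit 136, cD_s0, nat_lit 82), (nat_lit 109, cD_s1, nat_lit 138), (nat_lit 210, cD_s0, nat_lit 138), (nat_lit 131, cD_s2, nat_lit 104), (nat_lit 21, cD_s2, nat_lit 157), (nat_lit 230, cD_s0, nat_lit 157), (nat_lit 94, cD_s2, nat_lit 66), (nat_lit 118, cD_s1, nat_lit 66), (nat_lit 33, cD_s0, nat_lit 66), (nat_lit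 222, cD_s1, nat_lit 81), (nat_lit 134, cD_s0, nat_lit 81), (nat_lit 119, cD_s3, nat_lit 319), (nat_lit 97, cD_s2, nat_lit 319), (nat_lit 306, cD_s1, nat_lit 319), (nat_lit 301, cD_s0, nat_lit 319), (nat_lit 321, cD_s3, nat_lit 7), (nat_lit 158, cD_s2, nat_lit 7), (nat_lit 140, cD_s1, nat_lit 7), (nat_lit 15, cD_s0, nat_lit 7), (nat_lit 245, cD_s1, nat_lit 55), (nat_lit 175, cD_s2, nat_lit 136), (nat_lit 312, cD_s1, nat_lit 136), (nat_lit 53, cD_s3, nat_lit 109), (nat_lit 292, cD_s1, nat_lit 109), (nat_lit 326, cD_s3, nat_lit 210), (nat_lit 189, cD_s2, nat_lit 210), (nat_lit 256, cD_s1, nat_lit 210), (nat_lit 272, cD_s0, nat_lit 210), (nat_lit 202, cD_s1, nat_lit 131), (nat_lit 204, cD_s0, nat_lit 131), (nat_lit 50, cD_s1, nat_lit 21), (nat_lit 42, cD_s0, nat_lit 21), (nat_lit 103, cD_s3, nat_lit 230), (nat_lit 148, cD_s2, nat_lit 230), (nat_lit 135, cD_s1, nat_lit 230), (nat_lit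 261, cD_s0, nat_lit 230), (nat_lit 43, cD_s1, nat_lit 94), (nat_lit 156, cD_s0, nat_lit 94), (nat_lit 35, cD_s3, nat_lit 118), (nat_lit 192, cD_s2, nat_lit 118), (nat_lit 26, cD_s1, nat_lit 118), (nat_lit 178, cD_s0, nat_lit 118), (nat_lit 51, cD_s3, nat_lit 33), (nat_lit 120, cD_s2, nat_lit 33), (nat_lit 45, cD_s1, nat_lit 33), (nat_lit 60, cD_s0, nat_lit 33), (nat_lit 86, cD_s2, nat_lit 222), (nat_lit 281, cD_s0, nat_lit 222), (nat_lit 48, cD_s2, nat_lit 134), (nat_lit 208, cD_s0, nat_lit 134), (nat_lit 25, cD_s2, nat_lit 119), (nat_lit 20, cD_s0, nat_lit 119), (nat_lit 161, cD_s0, nat_lit 97), (nat_lit 8, cD_s2, nat_lit 306), (nat_lit 63, cD_s3, nat_lit 301), (nat_lit 27, cD_s2, nat_lit 301), (nat_lit 304, cD_s0, nat_lit 301), (nat_lit 137, cD_s2, nat_lit 321), (nat_lit 289, cD_s1, nat_lit 321), (nat_lit 333, cD_s0, nat_lit 321), (nat_lit 9, cD_s1, nat_lit 158), (nat_lit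 231, cD_s0, nat_lit 158), (nat_lit 142, cD_s3, nat_lit 140), (nat_lit 122, cD_s1, nat_lit 140), (nat_lit 212, cD_s0, nat_lit 140), (nat_lit 193, cD_s3, nat_lit 15), (nat_lit 221, cD_s2, nat_lit 15), (nat_lit 30, cD_s0, nat_lit 15), (nat_lit 10, cD_s3, nat_lit 245), (nat_lit 46, cD_s1, nat_lit 245), (nat_lit 270, cD_s0, nat_lit 245), (nat_lit 47, cD_s1, nat_lit 175), (nat_lit 225, cD_s0, nat_lit 175), (nat_lit 277, cD_s3, nat_lit 312), (nat_lit 190, cD_s2, nat_lit 312), (nat_lit 91, cD_s0, nat_lit 53), (nat_lit 295, cD_s1, nat_lit 326), (nat_lit 284, cD_s0, nat_lit 326), (nat_lit 34, cD_s1, nat_lit 189), (nat_lit 258, cD_s0, nat_lit 189), (nat_lit 330, cD_s3, nat_lit 256), (nat_lit 309, cD_s2, nat_lit 256), (nat_lit 263, cD_s1, nat_lit 256), (nat_lit 18, cD_s0, nat_lit 256), (nat_lit 313, cD_s3, nat_lit 272), (nat_lit 271, cD_s2, nat_lit 272), (nat_lit 264, cD_s3, nat_lit 202),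 (nat_lit 303, cD_s1, nat_lit 202), (nat_lit 130, cD_s0, nat_lit 202), (nat_lit 211, cD_s0, nat_lit 204), (nat_lit 89, cD_s2, nat_lit 50), (nat_lit 85, cD_s0, nat_lit 50), (nat_lit 44, cD_s1, nat_lit 42), (nat_lit 76, cD_s0, nat_lit 42), (nat_lit 99, cD_s2, nat_lit 103), (nat_lit 296, cD_s1, nat_lit 103), (nat_lit 170, cD_s0, nat_lit 103), (nat_lit 307, cD_s1, nat_lit 148), (nat_lit 220, cD_s0, nat_lit 148), (nat_lit 113, cD_s3, nat_lit 135), (nat_lit 127, cD_s2, nat_lit 135), (nat_lit 145, cD_s1, nat_lit 135), (nat_lit 37, cD_s0, nat_lit 135), (nat_lit 162, cD_s3, nat_lit 261), (nat_lit 288, cD_s2, nat_lit 261), (nat_lit 19, cD_s1, nat_lit 261), (nat_lit 98, cD_s0, nat_lit 261), (nat_lit 78, cD_s2, nat_lit 43), (nat_lit 77, cD_s0, nat_lit 43), (nat_lit 49, cD_s2, nat_lit 156), (nat_lit 228, cD_s0, nat_lit 156), (nat_lit 185, cD_s1, nat_lit 192), (nat_lit 217, cD_s0, nat_lit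 192), (nat_lit 320, cD_s2, nat_lit 26), (nat_lit 171, cD_s2, nat_lit 178), (nat_lit 180, cD_s1, nat_lit 178), (nat_lit 143, cD_s0, nat_lit 178), (nat_lit 129, cD_s2, nat_lit 51), (nat_lit 291, cD_s1, nat_lit 51), (nat_lit 87, cD_s0, nat_lit 51), (nat_lit 328, cD_s1, nat_lit 120), (nat_lit 52, cD_s0, nat_lit 120), (nat_lit 68, cD_s0, nat_lit 45), (nat_lit 300, cD_s2, nat_lit 60), (nat_lit 332, cD_s1, nat_lit 60), (nat_lit 102, cD_s0, nat_lit 60), (nat_lit 128, cD_s1, nat_lit 86), (nat_lit 287, cD_s2, nat_lit 281), (nat_lit 229, cD_s3, nat_lit 208), (nat_lit 209, cD_s2, nat_lit 208), (nat_lit 293, cD_s1, nat_lit 208), (nat_lit 269, cD_s0, nat_lit 208), (nat_lit 172, cD_s1, nat_lit 25), (nat_lit 4, cD_s2, nat_lit 20), (nat_lit 93, cD_s1, nat_lit 20), (nat_lit 40, cD_s0, nat_lit 20), (nat_lit 17, cD_s2, nat_lit 161), (nat_lit 234, cD_s0, nat_lit 161), (nat_lit 224, cD_s1, nat_lit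 8), (nat_lit 188, cD_s2, nat_lit 63), (nat_lit 107, cD_s0, nat_lit 63), (nat_lit 67, cD_s1, nat_lit 27), (nat_lit 57, cD_s2, nat_lit 304), (nat_lit 255, cD_s1, nat_lit 304), (nat_lit 331, cD_s0, nat_lit 304), (nat_lit 54, cD_s1, nat_lit 137), (nat_lit 112, cD_s0, nat_lit 137), (nat_lit 254, cD_s3, nat_lit 289), (nat_lit 13, cD_s2, nat_lit 289), (nat_lit 23, cD_s1, nat_lit 289), (nat_lit 12, cD_s3, nat_lit 333), (nat_lit 298, cD_s2, nat_lit 333), (nat_lit 56, cD_s1, nat_lit 333), (nat_lit 334, cD_s0, nat_lit 333), (nat_lit 240, cD_s3, nat_lit 9), (nat_lit 124, cD_s2, nat_lit 9), (nat_lit 268, cD_s1, nat_lit 9), (nat_lit 317, cD_s3, nat_lit 231), (nat_lit 310, cD_s2, nat_lit 231), (nat_lit 151, cD_s1, nat_lit 231), (nat_lit 200, cD_s0, nat_lit 142), (nat_lit 11, cD_s2, nat_lit 122), (nat_lit 232, cD_s0, nat_lit 212), (nat_lit 179, cD_s2, nat_lit 193), (nat_lit 121, cD_s1, nat_lit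 193), (nat_lit 262, cD_s0, nat_lit 193), (nat_lit 168, cD_s1, nat_lit 221), (nat_lit 280, cD_s0, nat_lit 221), (nat_lit 315, cD_s1, nat_lit 270), (nat_lit 285, cD_s0, nat_lit 270), (nat_lit 58, cD_s2, nat_lit 47), (nat_lit 29, cD_s0, nat_lit 47), (nat_lit 174, cD_s2, nat_lit 225), (nat_lit 257, cD_s1, nat_lit 225), (nat_lit 191, cD_s2, nat_lit 277), (nat_lit 169, cD_s1, nat_lit 190), (nat_lit 70, cD_s0, nat_lit 190), (nat_lit 150, cD_s0, nat_lit 91), (nat_lit 238, cD_s3, nat_lit 295), (nat_lit 308, cD_s2, nat_lit 295), (nat_lit 201, cD_s1, nat_lit 295), (nat_lit 195, cD_s0, nat_lit 295), (nat_lit 114, cD_s3, nat_lit 284), (nat_lit 335, cD_s2, nat_lit 284), (nat_lit 282, cD_s1, nat_lit 284), (nat_lit 279, cD_s0, nat_lit 284), (nat_lit 203, cD_s2, nat_lit 34), (nat_lit 61, cD_s0, nat_lit 34), (nat_lit 147, cD_s3, nat_lit 258), (nat_lit 276, cD_s2, nat_lit 258), (nat_lit 41, cD_s1,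 nat_lit 258), (nat_lit 181, cD_s0, nat_lit 330), (nat_lit 247, cD_s1, nat_lit 309), (nat_lit 273, cD_s0, nat_lit 309), (nat_lit 187, cD_s2, nat_lit 263), (nat_lit 36, cD_s2, nat_lit 18), (nat_lit 72, cD_s1, nat_lit 313), (nat_lit 325, cD_s0, nat_lit 313), (nat_lit 311, cD_s0, nat_lit 271), (nat_lit 327, cD_s3, nat_lit 211), (nat_lit 194, cD_s2, nat_lit 211), (nat_lit 236, cD_s1, nat_lit 211), (nat_lit 139, cD_s0, nat_lit 211), (nat_lit 218, cD_s1, nat_lit 89), (nat_lit 173, cD_s2, nat_lit 85), (nat_lit 214, cD_s1, nat_lit 85), (nat_lit 83, cD_s2, nat_lit 76), (nat_lit 32, cD_s1, nat_lit 76), (nat_lit 125, cD_s0, nat_lit 76), (nat_lit 163, cD_s0, nat_lit 99), (nat_lit 248, cD_s0, nat_lit 296), (nat_lit 62, cD_s1, nat_lit 170), (nat_lit 244, cD_s0, nat_lit 170), (nat_lit 146, cD_s2, nat_lit 307), (nat_lit 205, cD_s2, nat_lit 220), (nat_lit 275, cD_s0, nat_lit 220), (nat_lit 198,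 cD_s0, nat_lit 127), (nat_lit 197, cD_s2, nat_lit 145), (nat_lit 243, cD_s1, nat_lit 37), (nat_lit 297, cD_s2, nat_lit 162), (nat_lit 177, cD_s1, nat_lit 162), (nat_lit 79, cD_s0, nat_lit 162), (nat_lit 219, cD_s2, nat_lit 19), (nat_lit 38, cD_s0, nat_lit 19), (nat_lit 233, cD_s1, nat_lit 98), (nat_lit 155, cD_s0, nat_lit 98), (nat_lit 117, cD_s1, nat_lit 78), (nat_lit 64, cD_s1, nat_lit 49), (nat_lit 84, cD_s0, nat_lit 49), (nat_lit 184, cD_s3, nat_lit 228), (nat_lit 31, cD_s2, nat_lit 228), (nat_lit 167, cD_s1, nat_lit 228), (nat_lit 196, cD_s0, nat_lit 228), (nat_lit 278, cD_s0, nat_lit 217), (nat_lit 69, cD_s1, nat_lit 320), (nat_lit 80, cD_s1, nat_lit 171), (nat_lit 305, cD_s2, nat_lit 180), (nat_lit 302, cD_s1, nat_lit 180), (nat_lit 141, cD_s3, nat_lit 143), (nat_lit 252, cD_s1, nat_lit 143), (nat_lit 215, cD_s0, nat_lit 143), (nat_lit 241, cD_s1, nat_lit 129), (nat_lit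 249, cD_s2, nat_lit 291), (nat_lit 144, cD_s0, nat_lit 87), (nat_lit 133, cD_s3, nat_lit 328), (nat_lit 16, cD_s1, nat_lit 328), (nat_lit 164, cD_s0, nat_lit 328), (nat_lit 322, cD_s0, nat_lit 300), (nat_lit 71, cD_s1, nat_lit 102), (nat_lit 227, cD_s1, nat_lit 128), (nat_lit 318, cD_s0, nat_lit 293), (nat_lit 267, cD_s3, nat_lit 269), (nat_lit 250, cD_s0, nat_lit 269), (nat_lit 299, cD_s3, nat_lit 93), (nat_lit 154, cD_s0, nat_lit 93), (nat_lit 14, cD_s3, nat_lit 40), (nat_lit 73, cD_s0, nat_lit 40), (nat_lit 207, cD_s3, nat_lit 234), (nat_lit 216, cD_s2, nat_lit 234), (nat_lit 186, cD_s1, nat_lit 188), (nat_lit 242, cD_s0, nat_lit 188), (nat_lit 108, cD_s1, nat_lit 107), (nat_lit 166, cD_s3, nat_lit 67), (nat_lit 65, cD_s1, nat_lit 67), (nat_lit 324, cD_s3, nat_lit 255), (nat_lit 105, cD_s2, nat_lit 255), (nat_lit 253, cD_s1, nat_lit 255), (nat_lit 283, cD_s1, nat_lit 331),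 (nat_lit 110, cD_s3, nat_lit 54), (nat_lit 92, cD_s0, nat_lit 54), (nat_lit 123, cD_s3, nat_lit 112), (nat_lit 74, cD_s2, nat_lit 112), (nat_lit 260, cD_s1, nat_lit 112), (nat_lit 126, cD_s0, nat_lit 112), (nat_lit 88, cD_s2, nat_lit 23), (nat_lit 24, cD_s0, nat_lit 12), (nat_lit 159, cD_s1, nat_lit 298), (nat_lit 96, cD_s0, nat_lit 56), (nat_lit 111, cD_s2, nat_lit 240), (nat_lit 115, cD_s1, nat_lit 317), (nat_lit 329, cD_s0, nat_lit 317), (nat_lit 106, cD_s3, nat_lit 151), (nat_lit 259, cD_s1, nat_lit 151), (nat_lit 223, cD_s0, nat_lit 151), (nat_lit 239, cD_s1, nat_lit 11), (nat_lit 90, cD_s1, nat_lit 262), (nat_lit 152, cD_s3, nat_lit 280), (nat_lit 237, cD_s3, nat_lit 285), (nat_lit 251, cD_s0, nat_lit 174), (nat_lit 290, cD_s3, nat_lit 257), (nat_lit 235, cD_s0, nat_lit 257), (nat_lit 160, cD_s1, nat_lit 191), (nat_lit 206, cD_s2, nat_lit 238), (nat_lit 100, cD_s1, nat_lit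 308), (nat_lit 265, cD_s0, nat_lit 195), (nat_lit 183, cD_s0, nat_lit 114), (nat_lit 323, cD_s0, nat_lit 282), (nat_lit 2, cD_s0, nat_lit 61), (nat_lit 266, cD_s3, nat_lit 41), (nat_lit 101, cD_s2, nat_lit 181), (nat_lit 213, cD_s1, nat_lit 247), (nat_lit 274, cD_s3, nat_lit 273), (nat_lit 286, cD_s1, nat_lit 83), (nat_lit 39, cD_s1, nat_lit 32), (nat_lit 182, cD_s0, nat_lit 125), (nat_lit 165, cD_s2, nat_lit 163), (nat_lit 132, cD_s0, nat_lit 163), (nat_lit 294, cD_s1, nat_lit 205), (nat_lit 314, cD_s0, nat_lit 275), (nat_lit 6, cD_s1, nat_lit 233), (nat_lit 199, cD_s0, nat_lit 155), (nat_lit 176, cD_s0, nat_lit 184), (nat_lit 316, cD_s3, nat_lit 80), (nat_lit 153, cD_s0, nat_lit 252), (nat_lit 246, cD_s3, nat_lit 241), (nat_lit 59, cD_s1, nat_lit 144), (nat_lit 116, cD_s2, nat_lit 71), (nat_lit 28, cD_s0, nat_lit 14), (nat_lit 75, cD_s3, nat_lit 186), (nat_lit 226, cD_s1,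 nat_lit 96), (nat_lit 149, cD_s2, nat_lit 223), (nat_lit 5, cD_s1, nat_lit 265), (nat_lit 22, cD_s0, nat_lit 183)]
noncomputable def cD_lev1 : Cfsg.Agent.Lib.PermComp.Core.Lev := Cfsg.Agent.Lib.PermComp.Core.mkLev cD_n cD_w cD_mask cD_L cD_maskL cD_idc (nat_lit 1) [cD_s3, cD_s2, cD_s1] [(nat_lit 95, cD_s1, nat_lit 1), (nat_lit 82, cD_s3, nat_lit 95), (nat_lit 138, cD_s2, nat_lit 95), (nat_lit 104, cD_s1, nat_lit 95), (nat_lit 55, cD_s2, nat_lit 82), (nat_lit 109, cD_s1, nat_lit 138), (nat_lit 131, cD_s2, nat_lit 104), (nat_lit 245, cD_s1, nat_lit 55), (nat_lit 53, cD_s3, nat_lit 109), (nat_lit 292, cD_s1, nat_lit 109), (nat_lit 202, cD_s1, nat_lit 131), (nat_lit 10, cD_s3, nat_lit 245), (nat_lit 46, cD_s1, nat_lit 245), (nat_lit 264, cD_s3, nat_lit 202), (nat_lit 303, cD_s1, nat_lit 202)]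
noncomputable def cD_lev2 : Cfsg.Agent.Lib.PermComp.Core.Lev := Cfsg.Agent.Lib.PermComp.Core.mkLev cD_n cD_w cD_mask cD_L cD_maskL cD_idc (nat_lit 2) [cD_s3, cD_s2] [(nat_lit 253, cD_s2, nat_lit 2)]
noncomputable def cD_lev3 : Cfsg.Agent.Lib.PermComp.Core.Lev := Cfsg.Agent.Lib.PermComp.Core.mkLev cD_n cD_w cD_mask cD_L cD_maskL cD_idc (nat_lit 3) [cD_s3] [(nat_lit 66, cD_s3, nat_lit 3)]
noncomputable def cD_levels : List Cfsg.Agent.Lib.PermComp.Core.Lev := [cD_lev0, cD_lev1, cD_lev2, cD_lev3]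


end Cfsg.Agent.Lib.PermComp.OutP.HeC
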